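import Groth.Agent.Lib.BootUnif3.Formal
import Groth.Agent.Lib.AlgzFormal3.Cmp

/-!
# Čech local cohomology and local cohomology with supports in `V(J)`
-/

set_option autoImplicit false
set_option linter.style.haveILetI false
set_option linter.unusedSectionVars false

universe u

open CategoryTheory CategoryTheory.Limits Abelian PrimeSpectrum GrothLib.LCSupp DerCA

attribute [local instance] HasDerivedCategory.standard

noncomputable section

namespace GrothLib.BootGlob3

variable {A : Type u} [CommRing A] {T T' : Set (PrimeSpectrum A)}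

/-- Equalities between classes persist for larger supports. -/
theorem toHT_mono (hTT' : T ⊆ T') {k : ℕ} {M : ModuleCat.{u} A} {J K : Ideal A}
    {hJ : zeroLocus (J : Set A) ⊆ T} {hK : zeroLocus (K : Set A) ⊆ T} {e : Ext (quotI J) M k} {e' : Ext (quotI K) M k}
    (h : toHT k J hJ M e = toHT k K hK M e') :
    toHT k J (hJ.trans hTT') M e = toHT k K (hK.trans hTT') M e' := by
  obtain ⟨L, hL, h₁, h₂, he⟩ := (toHT_eq_toHT_iff e e').1 h
  exact (toHT_eq_toHT_iff e e').2 ⟨L, hL.trans hTT', h₁, h₂, he⟩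

theorem δ_map_g {S : ShortComplex (ModuleCat.{u} A)} (hS : S.ShortExact) (k : ℕ) (w : (HF T k).obj S.X₂) :
    δ hS k ((HF T k).map S.g w) = 0 := by
  obtain ⟨J, hJ, e, rfl⟩ := exists_toHT w
  rw [map_toHT, δ_toHT, Ext.comp_assoc_of_second_deg_zero, hS.comp_extClass, Ext.comp_zero, map_zero]

theorem δ_surjective {S : ShortComplex (ModuleCat.{u} A)} (hS : S.ShortExact) (hE : Module.Injective A S.X₂) (k : ℕ) :
    Function.Surjective (δ (T := T) hS k) := fun x => by
  haveI : Injective S.X₂ := Module.injective_object_of_injective_module A S.X₂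
  obtain ⟨J, hJ, e, he⟩ := exists_of_map_f_eq_zero hS (x := x) (by
    obtain ⟨J, hJ, e, he⟩ := exists_toHT ((HF T (k + 1)).map S.f x)
    rw [← he, Ext.eq_zero_of_injective e, map_zero])
  exact ⟨toHT k J hJ _ e, (δ_toHT hS e).trans he⟩

/-- On modules of `I`-power torsion the classes with supports in `T'` come from supports in `T' ∩ V(I)`. -/
theorem exists_toHT_of_torsion [IsNoetherianRing A] (I : Ideal A) (hT : T' ∩ zeroLocus (I : Set A) ⊆ T) (hTT' : T ⊆ T') :
    ∀ (k : ℕ) (N : ModuleCat.{u} A), LocCoh.IsPowerTorsion I N → ∀ x : (HF T' k).obj N,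
      ∃ (J : Ideal A) (hJ : zeroLocus (J : Set A) ⊆ T) (e : Ext (quotI J) N k), toHT k J (hJ.trans hTT') N e = x := by
  intro k
  induction k with
  | zero =>
    intro N hN x
    obtain ⟨J, hJ, e, rfl⟩ := exists_toHT x
    obtain ⟨f, rfl⟩ := (Ext.mk₀_bijective (quotI J) N).2 e
    let m : N := f.hom (Submodule.Quotient.mk 1)
    obtain ⟨c, hc⟩ := hN m
    let K : Ideal A := J ⊔ I ^ c
    have hK : zeroLocus (K : Set A) ⊆ T := fun P hP => hT ⟨hJ fun a ha => hP (Ideal.mem_sup_left ha),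
      P.2.le_of_pow_le (n := c) fun a ha => hP (Ideal.mem_sup_right ha)⟩
    have hf : ∀ a ∈ K, a • m = 0 := by
      intro a ha
      obtain ⟨b, hb, c', hc', rfl⟩ := Submodule.mem_sup.1 ha
      rw [add_smul, hc c' hc', add_zero]
      show b • f.hom (Submodule.Quotient.mk 1) = 0
      rw [← map_smul, ← Submodule.Quotient.mk_smul, smul_eq_mul, mul_one,
        (Submodule.Quotient.mk_eq_zero _).2 hb, map_zero]
    let g : A ⧸ K →ₗ[A] N := Submodule.liftQ K (LinearMap.toSpanSingleton A N m) fun a ha => hf a ha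
    refine ⟨K, hK, Ext.mk₀ (ModuleCat.ofHom g), ?_⟩
    refine (toHT_eq_toHT_iff _ _).2 ⟨J, hJ, le_sup_left, le_rfl, ?_⟩
    rw [Ext.mk₀_comp_mk₀, Ext.mk₀_comp_mk₀]
    refine congrArg Ext.mk₀ (ModuleCat.hom_ext (Submodule.linearMap_qext _ (LinearMap.ext_ring ?_)))
    show g (Submodule.Quotient.mk 1) = f.hom (Submodule.Quotient.mk 1)
    exact one_smul A m
  | succ k ih =>
    intro N hN x
    obtain ⟨E, ι, hι, hE, hEt⟩ := GrothLib.LC.exists_mono_injective_torsion I N hN
    haveI := hι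
    haveI := hE
    let S : ShortComplex (ModuleCat.{u} A) := ShortComplex.mk ι (cokernel.π ι) (cokernel.condition ι)
    have hS : S.ShortExact :=
      { exact := ShortComplex.exact_of_g_is_cokernel _ (cokernelIsCokernel ι) }
    obtain ⟨y, rfl⟩ := δ_surjective (T := T') hS (Module.injective_module_of_injective_object A E) k x
    obtain ⟨J, hJ, e, rfl⟩ := ih S.X₃ (GrothLib.LC.isPowerTorsion_of_surjective I S.g.hom
      ((ModuleCat.epi_iff_surjective S.g).1 inferInstance) hEt) y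
    exact ⟨J, hJ, e.comp hS.extClass rfl, (δ_toHT hS e).symm⟩

variable [IsNoetherianRing A] (J : Ideal A) (fs : List A) (hfs : Ideal.span {x | x ∈ fs} = J)

include hfs in
/-- The comparison in degree zero. -/
theorem exists_zero : ∃ e : ∀ M : ModuleCat.{u} A, extCechH fs M 0 ≃+ (HF (zeroLocus (J : Set A)) 0).obj M,
    ∀ {M N : ModuleCat.{u} A} (φ : M ⟶ N) x,
      e N (AlgzFormal3.tMap fs φ 0 x) = (HF (zeroLocus (J : Set A)) 0).map φ (e M x) := by
  have hex : ∀ (M : ModuleCat.{u} A) (z : extCechH fs M 0), ∃ (K : Ideal A) (_ : zeroLocus (K : Set A) ⊆ zeroLocus (J : Set A))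
      (f : quotI K ⟶ M), f.hom (Submodule.Quotient.mk 1) = (ExtCech.aug M fs).hom z := fun M z => by
    have hm : (ExtCech.aug M fs).hom z ∈ DRing.torsionSub J M := by
      rw [← hfs, ← ExtCech.range_aug]
      exact LinearMap.mem_range_self _ z
    obtain ⟨c, hc⟩ := hm
    refine ⟨J ^ c, GrothLib.LCSupp.mem_pow subset_rfl c,
      ModuleCat.ofHom (Submodule.liftQ _ (LinearMap.toSpanSingleton A M _) fun a ha => hc a ha), ?_⟩
    exact one_smul A _
  have huniq : ∀ (M : ModuleCat.{u} A) (K K' : Ideal A) (hK : zeroLocus (K : Set A) ⊆ zeroLocus (J : Set A))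
      (hK' : zeroLocus (K' : Set A) ⊆ zeroLocus (J : Set A)) (f : quotI K ⟶ M) (f' : quotI K' ⟶ M),
      f.hom (Submodule.Quotient.mk 1) = f'.hom (Submodule.Quotient.mk 1) →
        toHT 0 K hK M (Ext.mk₀ f) = toHT 0 K' hK' M (Ext.mk₀ f') := fun M K K' hK hK' f f' h => by
    refine (toHT_eq_toHT_iff _ _).2 ⟨K * K', mem_mul hK hK', Ideal.mul_le_left, Ideal.mul_le_right, ?_⟩
    rw [Ext.mk₀_comp_mk₀, Ext.mk₀_comp_mk₀]
    exact congrArg Ext.mk₀ (ModuleCat.hom_ext (Submodule.linearMap_qext _ (LinearMap.ext_ring h)))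
  choose K hK f hf using hex
  let φ : ∀ M : ModuleCat.{u} A, extCechH fs M 0 →+ (HF (zeroLocus (J : Set A)) 0).obj M := fun M =>
    AddMonoidHom.mk' (fun z => toHT 0 (K M z) (hK M z) M (Ext.mk₀ (f M z))) fun z z' => by
      show toHT 0 _ _ M _ = toHT 0 _ _ M _ + toHT 0 _ _ M _
      rw [← toHT_restrict (hJ := hK M z) (mem_mul (hK M z) (hK M z')) Ideal.mul_le_left,
        ← toHT_restrict (hJ := hK M z') (mem_mul (hK M z) (hK M z')) Ideal.mul_le_right,
        Ext.mk₀_comp_mk₀, Ext.mk₀_comp_mk₀, ← map_add, ← Ext.mk₀_add]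
      refine huniq M _ _ _ _ _ _ ?_
      rw [hf, map_add]
      exact (congrArg₂ (· + ·) (hf M z) (hf M z')).symm
  have hbij : ∀ M, Function.Bijective (φ M) := fun M => by
    refine ⟨(injective_iff_map_eq_zero _).2 fun z hz => (ExtCech.aug_injective_and_range M fs).1 ?_, fun x => ?_⟩
    · obtain ⟨L, hL, hle, h0⟩ := (toHT_eq_zero_iff _).1 hz
      rw [Ext.mk₀_comp_mk₀, ← Ext.mk₀_zero] at h0
      have h1 := ConcreteCategory.congr_hom ((Ext.mk₀_bijective _ _).1 h0) (Submodule.Quotient.mk 1)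
      rw [map_zero, ← hf M z]
      exact h1
    · obtain ⟨L, hL, e, rfl⟩ := exists_toHT x
      obtain ⟨g, rfl⟩ := (Ext.mk₀_bijective (quotI L) M).2 e
      have hm : g.hom (Submodule.Quotient.mk 1) ∈ DRing.torsionSub J M := by
        obtain ⟨c, hc⟩ := Ideal.exists_pow_le_of_le_radical_of_fg
          ((zeroLocus_subset_zeroLocus_iff _ _).1 hL) (IsNoetherian.noetherian J)
        refine ⟨c, fun a ha => ?_⟩
        show a • g.hom (Submodule.Quotient.mk 1) = 0
        rw [← map_smul, ← Submodule.Quotient.mk_smul, smul_eq_mul, mul_one,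
          (Submodule.Quotient.mk_eq_zero _).2 (hc ha), map_zero]
      rw [← hfs, ← ExtCech.range_aug] at hm
      obtain ⟨z, hz⟩ := hm
      exact ⟨z, huniq M _ _ _ _ _ _ ((hf M z).trans hz)⟩
  refine ⟨fun M => AddEquiv.ofBijective (φ M) (hbij M), fun {M N} g x => ?_⟩
  show toHT 0 _ _ N _ = (HF _ 0).map g (toHT 0 _ _ M _)
  rw [map_toHT, Ext.mk₀_comp_mk₀]
  refine huniq N _ _ _ _ _ _ ?_
  rw [hf]
  exact (ExtCech.aug_naturality_apply g fs x).trans (congrArg g.hom (hf M x).symm)

include hfs in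
/-- **The natural comparison.** -/
theorem exists_cmp (k : ℕ) :
    ∃ e : ∀ M : ModuleCat.{u} A, extCechH fs M (k : ℤ) ≃+ (HF (zeroLocus (J : Set A)) k).obj M,
      ∀ {M N : ModuleCat.{u} A} (φ : M ⟶ N) x,
        e N (AlgzFormal3.tMap fs φ (k : ℤ) x) = (HF (zeroLocus (J : Set A)) k).map φ (e M x) := by
  induction k with
  | zero => exact exists_zero J fs hfs
  | succ k ih =>
    obtain ⟨e, he⟩ := ih
    have h : (k : ℤ) + 1 = ((k + 1 : ℕ) : ℤ) := by push_cast; ring
    refine AlgzFormal3.exists_shift (A := A)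
      (fun φ => (AlgzFormal3.tMap fs φ (k : ℤ)).toAddMonoidHom)
      (fun φ => (AlgzFormal3.tMap fs φ ((k + 1 : ℕ) : ℤ)).toAddMonoidHom)
      (fun φ => ((HF (zeroLocus (J : Set A)) k).map φ).hom.toAddMonoidHom)
      (fun φ => ((HF (zeroLocus (J : Set A)) (k + 1)).map φ).hom.toAddMonoidHom)
      (fun S hS => (AlgzFormal3.tδ fs S hS _ _ h).toAddMonoidHom) (fun S hS => (δ hS k).toAddMonoidHom)
      (fun S T hS hT τ x => AlgzFormal3.tδ_naturality fs hS hT τ _ _ h x)
      (fun S T hS hT τ x => (BootUnif3.HT_δ_naturality hS hT τ k x).symm)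
      (fun S hS hE => AlgzFormal3.tδ_surjective fs S hS hE _ _ h (by omega))
      (fun S hS hE => δ_surjective hS hE k)
      (fun M => (e M).toAddMonoidHom) (fun φ x => he φ x) (fun M => (e M).surjective) fun S hS hE y => ?_
    change δ hS k (e S.X₃ y) = 0 ↔ AlgzFormal3.tδ fs S hS _ _ h y = 0
    constructor
    · intro hy
      obtain ⟨w, hw⟩ := BootUnif3.exists_of_HT_δ_eq_zero hS hy
      obtain ⟨z, rfl⟩ := (e S.X₂).surjective w
      rw [← he] at hw
      rw [← (e S.X₃).injective hw]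
      exact ShortComplex.moduleCat_zero_apply
        (ShortComplex.mk _ _ ((ExtCech.cxShort_shortExact hS fs).comp_δ _ _ h)) z
    · intro hy
      obtain ⟨z, rfl⟩ := (ShortComplex.moduleCat_exact_iff _).1
        ((ExtCech.cxShort_shortExact hS fs).homology_exact₃ _ _ h) y hy
      exact (congrArg (δ hS k) (he S.g z)).trans (δ_map_g hS k _)

end GrothLib.BootGlob3
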