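import Groth.Agent.Lib.BootGlob3.Six
import Groth.Agent.Lib.Faltings.Transfer
import Groth.Agent.Lib.AdicExtra.Local
import Mathlib.RingTheory.Flat.Localization

/-!
# The bootstrap conditions after completion
-/

set_option autoImplicit false
set_option linter.style.haveILetI false
set_option linter.unusedSectionVars false

universe u

open CategoryTheory CategoryTheory.Limits TensorProduct IsLocalRing GrothLib.DualRing GrothLib.DualCx22 PrimeSpectrum
  GrothLib.BootUnif3

attribute [local instance] HasDerivedCategory.standard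

namespace GrothLib.BootGlob3

/-- An isomorphism of completions from isomorphisms modulo all powers. -/
theorem exists_lift_bijective {R C : Type u} [CommRing R] [IsNoetherianRing R] [CommRing C] [Algebra R C] (J : Ideal R)
    [IsAdicComplete (J.map (algebraMap R C)) C]
    (hinj : ∀ (n : ℕ) (r : R), algebraMap R C r ∈ (J.map (algebraMap R C)) ^ n → r ∈ J ^ n)
    (hsurj : ∀ (n : ℕ) (c : C), ∃ r : R, c - algebraMap R C r ∈ (J.map (algebraMap R C)) ^ n) :
    ∃ ψ : AdicCompletion J R →+* C, Function.Bijective ψ ∧ ψ.comp (algebraMap R (AdicCompletion J R)) = algebraMap R C := by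
  let K := J.map (algebraMap R C)
  let g : ∀ n, R ⧸ J ^ n →+* C ⧸ K ^ n := fun n =>
    Ideal.quotientMap _ (algebraMap R C) (Ideal.map_le_iff_le_comap.1 (Ideal.map_pow _ J n).le)
  let f : ∀ n, AdicCompletion J R →+* C ⧸ K ^ n := fun n => (g n).comp (AdicCompletion.evalₐ J n).toRingHom
  have hf : ∀ {m n : ℕ} (h : m ≤ n), (Ideal.Quotient.factorPow K h).comp (f n) = f m := fun {m n} h => by
    refine RingHom.ext fun x => ?_
    obtain ⟨a, rfl⟩ := AdicCompletion.mk_surjective J R x
    simp only [f, g, RingHom.comp_apply, AlgHom.toRingHom_eq_coe, RingHom.coe_coe, AdicCompletion.evalₐ_mk,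
      Ideal.quotientMap_mk, Ideal.Quotient.factor_mk]
    rw [Ideal.Quotient.eq, ← map_sub]
    have h1 : a.1 m - a.1 n ∈ J ^ m := by
      have h2 := SModEq.sub_mem.1 (a.2 h)
      rwa [smul_eq_mul, Ideal.mul_top] at h2
    rw [← neg_mem_iff, ← map_neg, neg_sub]
    exact (Ideal.map_pow _ J m).le (Ideal.mem_map_of_mem _ h1)
  let ψ := IsAdicComplete.liftRingHom K f hf
  have hψ : ∀ n x, Ideal.Quotient.mk (K ^ n) (ψ x) = f n x := fun n x => IsAdicComplete.mk_liftRingHom K f hf n x
  refine ⟨ψ, ⟨(injective_iff_map_eq_zero ψ).2 fun x hx => ?_, fun c => ?_⟩, ?_⟩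
  · obtain ⟨a, rfl⟩ := AdicCompletion.mk_surjective J R x
    refine AdicCompletion.ext fun n => ?_
    have h1 := hψ n (AdicCompletion.mk J R a)
    rw [hx, map_zero] at h1
    simp only [f, g, RingHom.comp_apply, AlgHom.toRingHom_eq_coe, RingHom.coe_coe, AdicCompletion.evalₐ_mk,
      Ideal.quotientMap_mk] at h1
    have h2 := hinj n _ (Ideal.Quotient.eq_zero_iff_mem.1 h1.symm)
    rw [AdicCompletion.mk_apply_coe]
    exact (Submodule.Quotient.mk_eq_zero _).2 (by rw [smul_eq_mul, Ideal.mul_top]; exact h2)
  · choose r hr using fun n => hsurj n c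
    let a : AdicCompletion.AdicCauchySequence J R := AdicCompletion.AdicCauchySequence.mk J R r fun n => by
      rw [SModEq.sub_mem, smul_eq_mul, Ideal.mul_top]
      refine hinj n _ ?_
      rw [map_sub, ← sub_sub_sub_cancel_left _ _ c]
      exact sub_mem (Ideal.pow_le_pow_right (Nat.le_succ n) (hr (n + 1))) (hr n)
    refine ⟨AdicCompletion.mk J R a, sub_eq_zero.1 (IsHausdorff.haus (I := K) inferInstance _ fun n => ?_)⟩
    rw [SModEq.zero, smul_eq_mul, Ideal.mul_top, ← Ideal.Quotient.eq_zero_iff_mem, map_sub, hψ]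
    simp only [f, g, RingHom.comp_apply, AlgHom.toRingHom_eq_coe, RingHom.coe_coe, AdicCompletion.evalₐ_mk,
      Ideal.quotientMap_mk]
    rw [← map_sub, Ideal.Quotient.eq_zero_iff_mem, ← neg_mem_iff, neg_sub]
    exact hr n
  · refine RingHom.ext fun x => sub_eq_zero.1 (IsHausdorff.haus (I := K) inferInstance _ fun n => ?_)
    rw [SModEq.zero, smul_eq_mul, Ideal.mul_top, ← Ideal.Quotient.eq_zero_iff_mem, map_sub, RingHom.comp_apply, hψ]
    simp only [f, g, RingHom.comp_apply, AlgHom.toRingHom_eq_coe, RingHom.coe_coe, AlgHom.commutes,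
      Ideal.Quotient.algebraMap_eq, Ideal.quotientMap_mk, sub_self]

/-- The completion is congruent to the ring modulo powers of the ideal. -/
theorem exists_approx {A : Type u} [CommRing A] [IsNoetherianRing A] (I : Ideal A) (n : ℕ) (b : AdicCompletion I A) :
    ∃ a : A, b - algebraMap A (AdicCompletion I A) a ∈ (I.map (algebraMap A (AdicCompletion I A))) ^ n := by
  obtain ⟨a, ha⟩ := Submodule.mkQ_surjective _ (AdicCompletion.eval I A n b)
  refine ⟨a, ?_⟩
  have h2 : b - algebraMap A (AdicCompletion I A) a ∈ (I ^ n • ⊤ : Submodule A (AdicCompletion I A)) := by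
    rw [AdicCompletion.pow_smul_top_eq_ker_eval I.fg_of_isNoetherianRing, LinearMap.mem_ker, map_sub, ← ha]
    exact sub_self _
  rwa [Ideal.smul_top_eq_map, Submodule.restrictScalars_mem, Ideal.map_pow] at h2

variable {A : Type u} [CommRing A] [IsNoetherianRing A] {ω : Dual.D A} (hω : Dual.IsDualizing A ω)

include hω in
/-- Depth and dimension do not drop along a flat local algebra with trivial closed fibre. -/
theorem exists_degrees_flat (q : PrimeSpectrum A) (B : Type u) [CommRing B] [IsNoetherianRing B] [IsLocalRing B]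
    [Algebra (Localization.AtPrime q.asIdeal) B] [Algebra A B] [IsScalarTower A (Localization.AtPrime q.asIdeal) B]
    [Module.Flat (Localization.AtPrime q.asIdeal) B] [IsLocalHom (algebraMap (Localization.AtPrime q.asIdeal) B)]
    (hmax : (maximalIdeal (Localization.AtPrime q.asIdeal)).map (algebraMap (Localization.AtPrime q.asIdeal) B) =
      maximalIdeal B)
    (M : Type u) [AddCommGroup M] [Module A M] [Module.Finite A M] (P : PrimeSpectrum B)
    (hPM : P ∈ Module.support B (B ⊗[A] M)) :
    ∃ a δ e : ℕ,
      LocCoh.depth (Localization.AtPrime (PrimeSpectrum.comap (algebraMap A B) P).asIdeal)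
        (LocalizedModule (PrimeSpectrum.comap (algebraMap A B) P).asIdeal.primeCompl M) = a ∧
      LocCoh.depth (Localization.AtPrime P.asIdeal) (LocalizedModule P.asIdeal.primeCompl (B ⊗[A] M)) = δ ∧
      ringKrullDim (B ⧸ P.asIdeal) = e ∧ a ≤ δ ∧
      (a : ℤ) + (deg hω q.asIdeal - deg hω (PrimeSpectrum.comap (algebraMap A B) P).asIdeal) ≤ e + δ := by
  let R := Localization.AtPrime q.asIdeal
  let N := LocalizedModule q.asIdeal.primeCompl M
  haveI : IsNoetherianRing R := IsLocalization.isNoetherianRing q.asIdeal.primeCompl _ inferInstance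
  haveI : Module.Flat A B := flat_over_base q
  haveI : Module.Finite R N := Module.Finite.of_isLocalizedModule q.asIdeal.primeCompl
    (LocalizedModule.mkLinearMap q.asIdeal.primeCompl M)
  let eM : B ⊗[A] M ≃ₗ[B] B ⊗[R] N :=
    (AlgebraTensorModule.cancelBaseChange A R B B M).symm.trans
      (AlgebraTensorModule.congr (LinearEquiv.refl B B)
        (LocalizedModule.equivTensorProduct q.asIdeal.primeCompl M).symm)
  haveI : IsNoetherianRing (Localization.AtPrime P.asIdeal) :=
    IsLocalization.isNoetherianRing P.asIdeal.primeCompl _ inferInstance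
  have hP' : P ∈ Module.support B (B ⊗[R] N) := by rw [← eM.support_eq]; exact hPM
  -- the dualizing complex of the completion
  obtain ⟨ωR, hωR, hnR, hloc⟩ := GrothLib.FaltingsT3.exists_localized_EH_equiv hω q M
  haveI : Module.Flat R B := inferInstance
  haveI := GrothLib.DR.preservesFiniteLimits_extendScalars (algebraMap R B) GrothLib.DR.flat_algebraMap
  obtain ⟨lo, hi, hab⟩ := hωR.finite_injective_dimension
  haveI : ωR.IsGE lo := isGE_of_hom_ring ωR lo fun i h => hab R i (Or.inl h)
  have hωB : Dual.IsDualizing B ((bcD B).obj ωR) := isDualizing_bcD B hωR hi fun m _ i h =>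
    subsingleton_residue_bcD B hωR lo hi hab (maximalIdeal R) m (hmax.trans (IsLocalRing.eq_maximalIdeal ‹_›).symm) i
      (hab _ i (Or.inr h))
  have hnB : Dual.IsNormalized B ((bcD B).obj ωR) := fun i h =>
    subsingleton_residue_bcD B hωR lo hi hab (maximalIdeal R) (maximalIdeal B) hmax i (hnR i h)
  -- the degree carrying the depth
  obtain ⟨δ, hδ, hmem, -, -⟩ := exists_degrees hωB P (B ⊗[R] N) hP'
  have hdimP := GrothLib.DualRing.ringKrullDim_quotient_eq hωB hnB P.asIdeal
  let e := (-deg hωB P.asIdeal).toNat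
  have hdegP : deg hωB P.asIdeal ≤ 0 := by
    have h := (degS_strictMono hωB).monotone (show P ≤ closedPoint B from le_maximalIdeal P.2.ne_top)
    rw [show degS hωB (closedPoint B) = 0 from deg_maximal hωB hnB] at h
    exact h
  -- descend to the base
  let j : ℤ := deg hωB P.asIdeal - δ
  obtain ⟨eB⟩ := nonempty_bcD_inD (A := R) B N
  let EB : EH ((bcD B).obj ωR) (Dual.inD B (B ⊗[R] N)) j ≃ₗ[B] B ⊗[R] EH ωR (Dual.inD R N) j :=
    (Linear.homCongr B eB.symm (shiftBc B ωR j).symm) ≪≫ₗ
      (θEquiv B (isBC_inD B ωR lo (j - lo + 1).toNat N j (by omega))).symm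
  obtain ⟨eA⟩ := hloc j
  obtain ⟨X, hX, ⟨eX⟩⟩ := exists_finite_hom_equiv hω (Dual.inD A M) (finite_HD_inD M) (deg hω q.asIdeal + j)
  let Etot : EH ((bcD B).obj ωR) (Dual.inD B (B ⊗[R] N)) j ≃ₗ[B] B ⊗[A] X :=
    EB.trans ((AlgebraTensorModule.congr (LinearEquiv.refl B B)
      (eA.trans (AlgebraTensorModule.congr (LinearEquiv.refl R R) eX.symm))).trans
        (AlgebraTensorModule.cancelBaseChange A R B B X))
  have hPX : P ∈ Module.support B (B ⊗[A] X) := by rw [← Etot.support_eq]; exact hmem
  let p0 : PrimeSpectrum A := PrimeSpectrum.comap (algebraMap A B) P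
  have hp0 : p0 ∈ Module.support A (EH ω (Dual.inD A M) (deg hω q.asIdeal - ((e + δ : ℕ) : ℤ))) := by
    rw [show deg hω q.asIdeal - ((e + δ : ℕ) : ℤ) = deg hω q.asIdeal + j by push_cast; omega, ← eX.support_eq]
    by_contra hn
    haveI : Subsingleton (LocalizedModule (P.asIdeal.comap (algebraMap A B)).primeCompl X) :=
      Module.notMem_support_iff.1 hn
    exact Module.notMem_support_iff.2 (GrothLib.SkFlat5.subsingleton_tensor_right (A := A) (B := B) X B P.asIdeal) hPX
  obtain ⟨a, ha, hak⟩ := depth_add_deg_le (I := (⊤ : Ideal A)) hω M (fun _ _ => rfl) (e + δ) (fun h => p0.2.ne_top (top_le_iff.1 h)) hp0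
  let LM := IsLocalizedModule.mapEquiv P.asIdeal.primeCompl
    (LocalizedModule.mkLinearMap P.asIdeal.primeCompl (B ⊗[A] M))
    (LocalizedModule.mkLinearMap P.asIdeal.primeCompl (B ⊗[R] N)) (Localization.AtPrime P.asIdeal) eM
  haveI : Module.Finite (Localization.AtPrime P.asIdeal) (LocalizedModule P.asIdeal.primeCompl (B ⊗[A] M)) :=
    Module.Finite.of_isLocalizedModule P.asIdeal.primeCompl (LocalizedModule.mkLinearMap P.asIdeal.primeCompl _)
  haveI : Module.Finite (Localization.AtPrime P.asIdeal) (LocalizedModule P.asIdeal.primeCompl (B ⊗[R] N)) :=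
    Module.Finite.of_isLocalizedModule P.asIdeal.primeCompl (LocalizedModule.mkLinearMap P.asIdeal.primeCompl _)
  have hδM : LocCoh.depth (Localization.AtPrime P.asIdeal) (LocalizedModule P.asIdeal.primeCompl (B ⊗[A] M)) = δ := by
    rw [← hδ]
    exact GrothLib.Depth.idealDepth_eq_of_equiv (M := LocalizedModule P.asIdeal.primeCompl (B ⊗[A] M))
      (IsLocalRing.maximalIdeal _) LM
  obtain ⟨δ', e', hδ', he', haδ, -⟩ := depth_add_dim_le hω q hmax M P p0 rfl a (e + δ) ha hak
  have hδδ : δ' = δ := by exact_mod_cast hδ'.symm.trans hδM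
  refine ⟨a, δ, e, ha, hδM, ?_, by omega, by push_cast at hak; exact hak⟩
  rw [hdimP]

/-- The dualizing complex of the completion. -/
theorem exists_dualizing_completion {A : Type u} [CommRing A] [IsNoetherianRing A]
    (hdc : ∃ ω : Dual.D A, Dual.IsDualizing A ω) (I : Ideal A) :
    ∃ ω' : Dual.D (AdicCompletion I A), Dual.IsDualizing (AdicCompletion I A) ω' := by
  obtain ⟨ω, hω⟩ := hdc
  let B := AdicCompletion I A
  haveI : IsNoetherianRing B := GrothLib.AdicExtra.isNoetherianRing_adicCompletion I
  haveI : Module.Flat A B := inferInstance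
  haveI := GrothLib.DR.preservesFiniteLimits_extendScalars (algebraMap A B) GrothLib.DR.flat_algebraMap
  obtain ⟨lo, hi, hab⟩ := hω.finite_injective_dimension
  haveI : IsAdicComplete (I.map (algebraMap A B)) B := AdicCompletion.isAdicComplete_self I I.fg_of_isNoetherianRing
  refine ⟨_, isDualizing_bcD B hω hi fun m _ i h => ?_⟩
  refine subsingleton_residue_bcD B hω lo hi hab (m.comap (algebraMap A B)) m
    (le_antisymm Ideal.map_comap_le fun b hb => ?_) i (hab _ i (Or.inr h))
  obtain ⟨a, ha⟩ := exists_approx I 1 b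
  rw [pow_one] at ha
  have hIm : I.map (algebraMap A B) ≤ m :=
    (IsAdicComplete.le_jacobson_bot _).trans (sInf_le ⟨bot_le, inferInstance⟩)
  have ham : a ∈ m.comap (algebraMap A B) := by
    have h2 := sub_mem hb (hIm ha)
    rw [sub_sub_cancel] at h2
    exact h2
  have h3 := Ideal.map_mono (f := algebraMap A B) (Ideal.map_le_iff_le_comap.1 hIm) ha
  exact sub_add_cancel b (algebraMap A B a) ▸ add_mem h3 (Ideal.mem_map_of_mem _ ham)

include hω in
/-- **The bootstrap conditions after completion.** -/
theorem cond_completion {I : Ideal A} {d s : ℕ} {M : Type u} [AddCommGroup M] [Module A M] [Module.Finite A M]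
    {T : Set (PrimeSpectrum A)} (S : Cond I d s M T) :
    Cond (I.map (algebraMap A (AdicCompletion I A))) d s (AdicCompletion I M)
      (PrimeSpectrum.comap (algebraMap A (AdicCompletion I A)) ⁻¹' T) := by
  let B := AdicCompletion I A
  let IB := I.map (algebraMap A B)
  haveI : IsNoetherianRing B := GrothLib.AdicExtra.isNoetherianRing_adicCompletion I
  haveI : Module.Flat A B := inferInstance
  let eB : B ⊗[A] M ≃ₗ[B] AdicCompletion I M := AdicCompletion.ofTensorProductEquivOfFiniteNoetherian I M
  haveI : Module.Finite B (AdicCompletion I M) := Module.Finite.equiv eB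
  have hsub : PrimeSpectrum.comap (algebraMap A B) ⁻¹' T ⊆ zeroLocus (IB : Set B) :=
    fun Q hQ => Ideal.map_le_iff_le_comap.2 (S.le hQ)
  have hqQ : ∀ Q : PrimeSpectrum B, IB ≤ Q.asIdeal →
      (Q.asIdeal.comap (algebraMap A B)).map (algebraMap A B) = Q.asIdeal := fun Q hQ => by
    refine le_antisymm Ideal.map_comap_le fun b hb => ?_
    obtain ⟨a, ha⟩ := exists_approx I 1 b
    rw [pow_one] at ha
    have ham : a ∈ Q.asIdeal.comap (algebraMap A B) := by
      have h2 := sub_mem hb (hQ ha)
      rw [sub_sub_cancel] at h2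
      exact h2
    have h3 := Ideal.map_mono (f := algebraMap A B) (Ideal.map_le_iff_le_comap.1 hQ) ha
    exact sub_add_cancel b (algebraMap A B a) ▸ add_mem h3 (Ideal.mem_map_of_mem _ ham)
  -- the local algebra at a point of `V(I)`
  have hloc : ∀ Q : PrimeSpectrum B, IB ≤ Q.asIdeal →
      ∃ (_ : Algebra (Localization.AtPrime (PrimeSpectrum.comap (algebraMap A B) Q).asIdeal) (Localization.AtPrime Q.asIdeal)),
        IsScalarTower A (Localization.AtPrime (PrimeSpectrum.comap (algebraMap A B) Q).asIdeal) (Localization.AtPrime Q.asIdeal) ∧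
        Module.Flat (Localization.AtPrime (PrimeSpectrum.comap (algebraMap A B) Q).asIdeal) (Localization.AtPrime Q.asIdeal) ∧
        IsLocalHom (algebraMap (Localization.AtPrime (PrimeSpectrum.comap (algebraMap A B) Q).asIdeal) (Localization.AtPrime Q.asIdeal)) ∧
        (maximalIdeal (Localization.AtPrime (PrimeSpectrum.comap (algebraMap A B) Q).asIdeal)).map
          (algebraMap (Localization.AtPrime (PrimeSpectrum.comap (algebraMap A B) Q).asIdeal) (Localization.AtPrime Q.asIdeal)) =
            maximalIdeal (Localization.AtPrime Q.asIdeal) := by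
    intro Q hQ
    let q := PrimeSpectrum.comap (algebraMap A B) Q
    let R := Localization.AtPrime q.asIdeal
    let S' := Localization.AtPrime Q.asIdeal
    letI alg : Algebra R S' := (Localization.localRingHom q.asIdeal Q.asIdeal (algebraMap A B) rfl).toAlgebra
    haveI : IsScalarTower A R S' := IsScalarTower.of_algebraMap_eq fun a => by
      show _ = Localization.localRingHom q.asIdeal Q.asIdeal (algebraMap A B) rfl (algebraMap A R a)
      rw [Localization.localRingHom_to_map]
      exact IsScalarTower.algebraMap_apply A B S' a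
    refine ⟨alg, inferInstance, ?_, Localization.isLocalHom_localRingHom _ _ _ rfl, ?_⟩
    · haveI : Module.Flat B S' := IsLocalization.flat _ Q.asIdeal.primeCompl
      haveI : Module.Flat A S' := Module.Flat.trans A B S'
      exact (Module.flat_iff_of_isLocalization R q.asIdeal.primeCompl S').2 inferInstance
    · rw [← Localization.AtPrime.map_eq_maximalIdeal, ← Localization.AtPrime.map_eq_maximalIdeal, Ideal.map_map,
        ← IsScalarTower.algebraMap_eq, IsScalarTower.algebraMap_eq A B S', ← Ideal.map_map]
      exact congrArg _ (hqQ Q hQ)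
  refine ⟨GrothLib.HLVT.cdLE_map S.cd, hsub, fun x y hxy hx =>
    S.stable ((PrimeSpectrum.le_iff_specializes _ _).1 (Ideal.comap_mono ((PrimeSpectrum.le_iff_specializes x y).2 hxy))) hx,
    fun P Rp Q hPR hRQ hIP hIR hRT hQT => ?_, fun Q hQT P hIP hcl => ?_⟩
  · let q := PrimeSpectrum.comap (algebraMap A B) Q
    let R := Localization.AtPrime q.asIdeal
    let S' := Localization.AtPrime Q.asIdeal
    obtain ⟨_, _, _, _, hmax⟩ := hloc Q (hsub hQT)
    haveI : IsNoetherianRing S' := IsLocalization.isNoetherianRing Q.asIdeal.primeCompl _ inferInstance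
    haveI : IsNoetherianRing (Localization.AtPrime P.asIdeal) :=
      IsLocalization.isNoetherianRing P.asIdeal.primeCompl _ inferInstance
    rcases subsingleton_or_nontrivial (LocalizedModule P.asIdeal.primeCompl (AdicCompletion I M)) with hs | hs
    · left
      haveI := hs
      rw [GrothLib.Depth.depth_eq_top_of_subsingleton]
      exact le_top
    let N := LocalizedModule Q.asIdeal.primeCompl (AdicCompletion I M)
    haveI : Module.Finite S' N := Module.Finite.of_isLocalizedModule Q.asIdeal.primeCompl
      (LocalizedModule.mkLinearMap Q.asIdeal.primeCompl (AdicCompletion I M))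
    have hdisj : Disjoint (Q.asIdeal.primeCompl : Set B) (P.asIdeal : Set B) :=
      Set.disjoint_left.2 fun b hb hbP => hb (hRQ (hPR hbP))
    let P' : PrimeSpectrum S' := ⟨P.asIdeal.map (algebraMap B S'),
      IsLocalization.isPrime_of_isPrime_disjoint Q.asIdeal.primeCompl _ P.asIdeal P.2 hdisj⟩
    haveI : P'.asIdeal.IsPrime := P'.2
    have hPc : P'.asIdeal.comap (algebraMap B S') = P.asIdeal :=
      IsLocalization.under_map_of_isPrime_disjoint Q.asIdeal.primeCompl _ P.2 hdisj
    have hdep : LocCoh.depth (Localization.AtPrime P.asIdeal) (LocalizedModule P.asIdeal.primeCompl (AdicCompletion I M)) =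
        LocCoh.depth (Localization.AtPrime P'.asIdeal) (LocalizedModule P'.asIdeal.primeCompl N) := by
      refine GrothLib.Faltings.depth_localization_comap P.asIdeal P'.asIdeal hPc
        (LocalizedModule.mkLinearMap Q.asIdeal.primeCompl (AdicCompletion I M)) (fun z => ?_) (fun z => ?_) fun m hm => ?_
      · obtain ⟨⟨b, t⟩, ht⟩ := IsLocalization.surj Q.asIdeal.primeCompl z
        exact ⟨t, b, fun h => t.2 (hRQ (hPR h)), by rw [Algebra.smul_def, mul_comm]; exact ht⟩
      · obtain ⟨⟨m, t⟩, ht⟩ := IsLocalizedModule.surj Q.asIdeal.primeCompl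
          (LocalizedModule.mkLinearMap Q.asIdeal.primeCompl (AdicCompletion I M)) z
        exact ⟨t, m, fun h => t.2 (hRQ (hPR h)), ht⟩
      · obtain ⟨t, ht⟩ := (IsLocalizedModule.eq_zero_iff Q.asIdeal.primeCompl
          (LocalizedModule.mkLinearMap Q.asIdeal.primeCompl (AdicCompletion I M))).1 hm
        exact ⟨t, fun h => t.2 (hRQ (hPR h)), ht⟩
    let e : S' ⊗[A] M ≃ₗ[S'] N :=
      ((AlgebraTensorModule.cancelBaseChange A B S' S' M).symm.trans
        (AlgebraTensorModule.congr (LinearEquiv.refl S' S') eB)).trans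
          (LocalizedModule.equivTensorProduct Q.asIdeal.primeCompl (AdicCompletion I M)).symm
    let L := IsLocalizedModule.mapEquiv P'.asIdeal.primeCompl
      (LocalizedModule.mkLinearMap P'.asIdeal.primeCompl (S' ⊗[A] M))
      (LocalizedModule.mkLinearMap P'.asIdeal.primeCompl N) (Localization.AtPrime P'.asIdeal) e
    haveI : Module.Finite (Localization.AtPrime P'.asIdeal) (LocalizedModule P'.asIdeal.primeCompl (S' ⊗[A] M)) :=
      Module.Finite.of_isLocalizedModule P'.asIdeal.primeCompl (LocalizedModule.mkLinearMap P'.asIdeal.primeCompl _)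
    haveI : Module.Finite (Localization.AtPrime P'.asIdeal) (LocalizedModule P'.asIdeal.primeCompl N) :=
      Module.Finite.of_isLocalizedModule P'.asIdeal.primeCompl (LocalizedModule.mkLinearMap P'.asIdeal.primeCompl _)
    haveI : IsNoetherianRing (Localization.AtPrime P'.asIdeal) :=
      IsLocalization.isNoetherianRing P'.asIdeal.primeCompl _ inferInstance
    have hP'M : P' ∈ Module.support S' (S' ⊗[A] M) := by
      rw [e.support_eq]
      by_contra hn
      refine not_subsingleton_iff_nontrivial.2 hs ?_
      rw [LocalizedModule.subsingleton_iff]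
      intro m
      obtain ⟨t, htP, ht⟩ := Module.notMem_support_iff'.1 hn
        (LocalizedModule.mkLinearMap Q.asIdeal.primeCompl (AdicCompletion I M) m)
      obtain ⟨⟨b, σ⟩, hσ⟩ := IsLocalization.surj Q.asIdeal.primeCompl t
      have hbP : b ∉ P.asIdeal := fun h => htP (by
        have h1 : t * algebraMap B S' σ ∈ P'.asIdeal := hσ ▸ Ideal.mem_map_of_mem _ h
        exact (P'.2.mem_or_mem h1).resolve_right fun h2 => σ.2 (hRQ (hPR (hPc.le h2))))
      have hb : LocalizedModule.mkLinearMap Q.asIdeal.primeCompl (AdicCompletion I M) (b • m) = 0 := by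
        rw [map_smul, ← algebraMap_smul S' b, ← hσ, mul_comm, mul_smul, ht, smul_zero]
      obtain ⟨u, hu⟩ := (IsLocalizedModule.eq_zero_iff Q.asIdeal.primeCompl _).1 hb
      exact ⟨u * b, fun h => (P.2.mem_or_mem h).elim (fun h' => u.2 (hRQ (hPR h'))) hbP, by rw [mul_smul]; exact hu⟩
    obtain ⟨a, δ, e', ha, hδ, he, haδ, hsum⟩ := exists_degrees_flat hω q S' hmax M P' hP'M
    have hδ' : LocCoh.depth (Localization.AtPrime P.asIdeal) (LocalizedModule P.asIdeal.primeCompl (AdicCompletion I M)) = δ := by
      rw [hdep, ← hδ]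
      exact (GrothLib.Depth.idealDepth_eq_of_equiv (M := LocalizedModule P'.asIdeal.primeCompl (S' ⊗[A] M))
        (IsLocalRing.maximalIdeal _) L).symm
    have hp : PrimeSpectrum.comap (algebraMap A S') P' = PrimeSpectrum.comap (algebraMap A B) P := by
      refine PrimeSpectrum.ext ?_
      show P'.asIdeal.comap (algebraMap A S') = P.asIdeal.comap (algebraMap A B)
      rw [IsScalarTower.algebraMap_eq A B S', ← Ideal.comap_comap, hPc]
    rw [hp] at ha hsum
    let p := PrimeSpectrum.comap (algebraMap A B) P
    change (a : ℤ) + (deg hω q.asIdeal - deg hω p.asIdeal) ≤ e' + δ at hsum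
    have hpr : p ≤ PrimeSpectrum.comap (algebraMap A B) Rp := Ideal.comap_mono hPR
    have hrq : PrimeSpectrum.comap (algebraMap A B) Rp ≤ q := Ideal.comap_mono hRQ
    rcases S.h4 p (PrimeSpectrum.comap (algebraMap A B) Rp) q hpr hrq (fun h => hIP (Ideal.map_le_iff_le_comap.2 h))
      (Ideal.map_le_iff_le_comap.1 hIR) hRT hQT with h | h
    · left
      rw [ha] at h
      rw [hδ']
      have : s ≤ a := by exact_mod_cast h
      exact_mod_cast (this.trans haδ)
    · right
      rw [ha, GrothLib.AlgzBoot3.dimBetween_deg hω (hpr.trans hrq)] at h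
      have h' : d + s < a + (deg hω q.asIdeal - deg hω p.asIdeal).toNat := by exact_mod_cast h
      have hdeg : deg hω p.asIdeal ≤ deg hω q.asIdeal := (degS_strictMono hω).monotone (hpr.trans hrq)
      have hfin : d + s < δ + e' := by omega
      rw [hδ', show Formal2.dimBetween B P.asIdeal Q.asIdeal = (e' : WithBot ℕ∞) from he]
      exact_mod_cast hfin
  · let q := PrimeSpectrum.comap (algebraMap A B) Q
    let R := Localization.AtPrime q.asIdeal
    let S' := Localization.AtPrime Q.asIdeal
    obtain ⟨_, _, _, _, hmax⟩ := hloc Q (hsub hQT)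
    let IR := I.map (algebraMap A R)
    let IS := IB.map (algebraMap B S')
    let CR := AdicCompletion IR R
    let CS := AdicCompletion IS S'
    haveI : IsNoetherianRing R := IsLocalization.isNoetherianRing q.asIdeal.primeCompl _ inferInstance
    haveI : IsNoetherianRing S' := IsLocalization.isNoetherianRing Q.asIdeal.primeCompl _ inferInstance
    haveI : Module.FaithfullyFlat R S' := Module.FaithfullyFlat.of_flat_of_isLocalHom
    have hIS : IR.map (algebraMap R S') = IS := by
      rw [Ideal.map_map, ← IsScalarTower.algebraMap_eq, IsScalarTower.algebraMap_eq A B S', ← Ideal.map_map]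
    haveI : IsScalarTower A S' CS := inferInstance
    haveI : IsScalarTower R S' CS := inferInstance
    haveI : IsScalarTower A R CS := inferInstance
    have hIC : IR.map (algebraMap R CS) = IS.map (algebraMap S' CS) := by
      rw [IsScalarTower.algebraMap_eq R S' CS, ← Ideal.map_map, hIS]
    haveI : IsAdicComplete (IR.map (algebraMap R CS)) CS :=
      hIC ▸ AdicCompletion.isAdicComplete_self IS IS.fg_of_isNoetherianRing
    haveI : IsNoetherianRing CS := GrothLib.AdicExtra.isNoetherianRing_adicCompletion IS
    have hmemCS : ∀ (n : ℕ) (x : S'), algebraMap S' CS x ∈ (IS.map (algebraMap S' CS)) ^ n → x ∈ IS ^ n := fun n x hx => by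
      have h2 : algebraMap S' CS x ∈ (IS ^ n • ⊤ : Submodule S' CS) := by
        rwa [Ideal.smul_top_eq_map, Submodule.restrictScalars_mem, Ideal.map_pow]
      rw [AdicCompletion.pow_smul_top_eq_ker_eval IS.fg_of_isNoetherianRing, LinearMap.mem_ker] at h2
      have h3 : (Submodule.Quotient.mk x : S' ⧸ (IS ^ n • ⊤ : Submodule S' S')) = 0 := h2
      rw [Submodule.Quotient.mk_eq_zero, smul_eq_mul, Ideal.mul_top] at h3
      exact h3
    obtain ⟨ψ, hψ, hψR⟩ := exists_lift_bijective (R := R) (C := CS) IR (fun n r hr => by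
        rw [hIC, IsScalarTower.algebraMap_apply R S' CS] at hr
        have h := hmemCS n _ hr
        rw [← hIS, ← Ideal.map_pow] at h
        rw [← Ideal.comap_map_eq_self_of_faithfullyFlat (B := S') (IR ^ n)]
        exact h)
      (fun n c => by
        obtain ⟨x, hx⟩ := exists_approx IS n c
        obtain ⟨⟨b, t⟩, ht⟩ := IsLocalization.surj Q.asIdeal.primeCompl x
        obtain ⟨a, ha⟩ := exists_approx I (n + 1) b
        obtain ⟨a', ha'⟩ := exists_approx I (n + 1) (t : B)
        have ha'q : a' ∉ q.asIdeal := fun h => t.2 (by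
          have := add_mem (hsub hQT (Ideal.pow_le_self (Nat.succ_ne_zero n) ha'))
            (show algebraMap A B a' ∈ Q.asIdeal from h)
          exact sub_add_cancel (t : B) (algebraMap A B a') ▸ this)
        refine ⟨IsLocalization.mk' R a (⟨a', ha'q⟩ : q.asIdeal.primeCompl), ?_⟩
        rw [hIC]
        rw [show c - algebraMap R CS (IsLocalization.mk' R a (⟨a', ha'q⟩ : q.asIdeal.primeCompl)) = (c - algebraMap S' CS x) +
          algebraMap S' CS (x - algebraMap R S' (IsLocalization.mk' R a (⟨a', ha'q⟩ : q.asIdeal.primeCompl))) by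
            rw [map_sub, IsScalarTower.algebraMap_apply R S' CS]; ring]
        refine add_mem hx ?_
        rw [← Ideal.map_pow]
        refine Ideal.mem_map_of_mem _ ?_
        let y := algebraMap R S' (IsLocalization.mk' R a (⟨a', ha'q⟩ : q.asIdeal.primeCompl))
        have hy : y * algebraMap B S' (algebraMap A B a') = algebraMap B S' (algebraMap A B a) := by
          rw [← IsScalarTower.algebraMap_apply A B S', ← IsScalarTower.algebraMap_apply A B S',
            IsScalarTower.algebraMap_apply A R S' a', ← map_mul, IsLocalization.mk'_spec,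
            ← IsScalarTower.algebraMap_apply]
        have hu : IsUnit (algebraMap B S' (algebraMap A B a')) :=
          IsLocalization.map_units S' (⟨algebraMap A B a', fun h => ha'q h⟩ : Q.asIdeal.primeCompl)
        rw [← Ideal.mul_unit_mem_iff_mem _ hu, sub_mul, hy]
        have hmem : ∀ z : B, z ∈ IB ^ (n + 1) → algebraMap B S' z ∈ IS ^ n := fun z hz => by
          rw [← Ideal.map_pow]
          exact Ideal.mem_map_of_mem _ (Ideal.pow_le_pow_right (Nat.le_succ n) hz)
        rw [show x * algebraMap B S' (algebraMap A B a') - algebraMap B S' (algebraMap A B a) =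
          algebraMap B S' (b - algebraMap A B a) - x * algebraMap B S' ((t : B) - algebraMap A B a') by
            rw [map_sub, map_sub, mul_sub, ht]; ring]
        exact sub_mem (hmem _ ha) (Ideal.mul_mem_left _ _ (hmem _ ha')))
    letI algψ : Algebra CR CS := ψ.toAlgebra
    haveI : IsScalarTower R CR CS := IsScalarTower.of_algebraMap_eq' hψR.symm
    haveI : IsScalarTower A CR CS := IsScalarTower.of_algebraMap_eq fun a => by
      rw [IsScalarTower.algebraMap_apply A R CR, IsScalarTower.algebraMap_apply A R CS,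
        ← IsScalarTower.algebraMap_apply R CR CS]
    haveI : Module.Flat CR CS := Module.Flat.of_linearEquiv
      (LinearEquiv.ofBijective (Algebra.linearMap CR CS) hψ).symm
    haveI : IsNoetherianRing CR := GrothLib.AdicExtra.isNoetherianRing_adicCompletion IR
    let N := LocalizedModule q.asIdeal.primeCompl M
    haveI : Module.Finite R N := Module.Finite.of_isLocalizedModule q.asIdeal.primeCompl
      (LocalizedModule.mkLinearMap q.asIdeal.primeCompl M)
    let eR : CR ⊗[R] N ≃ₗ[CR] AdicCompletion IR N := AdicCompletion.ofTensorProductEquivOfFiniteNoetherian IR N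
    haveI : Module.Finite CR (AdicCompletion IR N) := Module.Finite.equiv eR
    let eN : R ⊗[A] M ≃ₗ[R] N := (LocalizedModule.equivTensorProduct q.asIdeal.primeCompl M).symm
    let E := AdicCompletion IR N
    let W := LocalizedModule Q.asIdeal.primeCompl (AdicCompletion I M)
    haveI : Module.Finite S' W := Module.Finite.of_isLocalizedModule Q.asIdeal.primeCompl
      (LocalizedModule.mkLinearMap Q.asIdeal.primeCompl (AdicCompletion I M))
    let eS : CS ⊗[S'] W ≃ₗ[CS] AdicCompletion IS W := AdicCompletion.ofTensorProductEquivOfFiniteNoetherian IS W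
    let eW : S' ⊗[A] M ≃ₗ[S'] W :=
      ((AlgebraTensorModule.cancelBaseChange A B S' S' M).symm.trans
        (AlgebraTensorModule.congr (LinearEquiv.refl S' S') eB)).trans
          (LocalizedModule.equivTensorProduct Q.asIdeal.primeCompl (AdicCompletion I M)).symm
    let c1 : CR ⊗[A] M ≃ₗ[CR] E := ((AlgebraTensorModule.cancelBaseChange A R CR CR M).symm.trans
      (AlgebraTensorModule.congr (LinearEquiv.refl CR CR) eN)).trans eR
    let c2 : CS ⊗[A] M ≃ₗ[CS] AdicCompletion IS W := ((AlgebraTensorModule.cancelBaseChange A S' CS CS M).symm.trans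
      (AlgebraTensorModule.congr (LinearEquiv.refl CS CS) eW)).trans eS
    let F : CS ⊗[CR] E ≃ₗ[CS] AdicCompletion IS W := ((AlgebraTensorModule.congr (LinearEquiv.refl CS CS) c1.symm).trans
      (AlgebraTensorModule.cancelBaseChange A CR CS CS M)).trans c2
    haveI : Module.Finite CS (AdicCompletion IS W) := Module.Finite.equiv eS
    haveI : IsNoetherianRing (Localization.AtPrime P.asIdeal) :=
      IsLocalization.isNoetherianRing P.asIdeal.primeCompl _ inferInstance
    let P0 : PrimeSpectrum CR := PrimeSpectrum.comap ψ P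
    have hmapI : (I.map (algebraMap A CR)).map ψ = IB.map (algebraMap B CS) := by
      rw [Ideal.map_map, Ideal.map_map]
      congr 1
      refine RingHom.ext fun a => ?_
      show algebraMap CR CS (algebraMap A CR a) = algebraMap B CS (algebraMap A B a)
      rw [← IsScalarTower.algebraMap_apply, IsScalarTower.algebraMap_apply A S' CS,
        IsScalarTower.algebraMap_apply A B S', IsScalarTower.algebraMap_apply B S' CS]
    have h6 := S.h6 q hQT P0 (fun h => hIP (by
        rw [← hmapI]
        exact Ideal.map_le_iff_le_comap.2 h))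
      (fun q' hq' hIq' => by
        haveI := q'.2
        have hq'm : (q'.asIdeal.map ψ).IsPrime :=
          Ideal.map_isPrime_of_surjective hψ.2 (by rw [(RingHom.injective_iff_ker_eq_bot ψ).1 hψ.1]; exact bot_le)
        have h := hcl ⟨q'.asIdeal.map ψ, hq'm⟩
          (fun y hy => by
            obtain ⟨z, rfl⟩ := hψ.2 y
            exact Ideal.mem_map_of_mem _ (hq' hy))
          (by rw [← hmapI]; exact Ideal.map_mono hIq')
        haveI := h
        have h2 := Ideal.comap_isMaximal_of_surjective ψ hψ.2 (K := q'.asIdeal.map ψ)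
        rwa [Ideal.comap_map_of_bijective ψ hψ] at h2)
    refine lt_of_lt_of_le h6 ?_
    let L := IsLocalizedModule.mapEquiv P.asIdeal.primeCompl
      (LocalizedModule.mkLinearMap P.asIdeal.primeCompl (CS ⊗[CR] E))
      (LocalizedModule.mkLinearMap P.asIdeal.primeCompl (AdicCompletion IS W)) (Localization.AtPrime P.asIdeal) F
    haveI : Module.Finite (Localization.AtPrime P.asIdeal) (LocalizedModule P.asIdeal.primeCompl (CS ⊗[CR] E)) :=
      Module.Finite.of_isLocalizedModule P.asIdeal.primeCompl (LocalizedModule.mkLinearMap P.asIdeal.primeCompl _)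
    haveI : Module.Finite (Localization.AtPrime P.asIdeal) (LocalizedModule P.asIdeal.primeCompl (AdicCompletion IS W)) :=
      Module.Finite.of_isLocalizedModule P.asIdeal.primeCompl (LocalizedModule.mkLinearMap P.asIdeal.primeCompl _)
    refine le_of_le_of_eq ?_ (GrothLib.Depth.idealDepth_eq_of_equiv
      (M := LocalizedModule P.asIdeal.primeCompl (CS ⊗[CR] E)) (IsLocalRing.maximalIdeal _) L)
    rcases subsingleton_or_nontrivial (LocalizedModule P0.asIdeal.primeCompl E) with hs | hs
    · haveI : Subsingleton (LocalizedModule (P.asIdeal.comap (algebraMap CR CS)).primeCompl E) := hs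
      haveI := GrothLib.SkFlat5.subsingleton_tensor_right (A := CR) (B := CS) E CS P.asIdeal
      exact le_top.trans (GrothLib.Depth.depth_eq_top_of_subsingleton _).ge
    haveI : Nontrivial (LocalizedModule (P.asIdeal.comap (algebraMap CR CS)).primeCompl E) := hs
    haveI : Nontrivial (LocalizedModule P.asIdeal.primeCompl CS) :=
      (IsLocalizedModule.linearEquiv P.asIdeal.primeCompl (LocalizedModule.mkLinearMap P.asIdeal.primeCompl CS)
        (Algebra.linearMap CS (Localization.AtPrime P.asIdeal))).toEquiv.nontrivial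
    refine le_of_le_of_eq ?_ (GrothLib.SkFlat5.dep_sdim_tensor (A := CR) (B := CS) E CS P.asIdeal).1.symm
    exact le_self_add

end GrothLib.BootGlob3
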