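import Groth.Agent.Lib.BootUnif3.Local
import Groth.Agent.Lib.LC.TopNonzero
import Groth.Agent.Lib.HLVT.Sdim
import Groth.Agent.Lib.HLVT.Ara
import Groth.Agent.Lib.DualRing.LocalizedEH
import Groth.Agent.Lib.DualCx22.Transfer

/-!
# Condition (6) from the depths near `V(I)`
-/

set_option autoImplicit false
set_option linter.style.haveILetI false
set_option linter.unusedSectionVars false

universe u

open CategoryTheory CategoryTheory.Limits TensorProduct IsLocalRing GrothLib.DualRing GrothLib.DualCx22 PrimeSpectrum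
  GrothLib.BootUnif3

attribute [local instance] HasDerivedCategory.standard

namespace GrothLib.BootGlob3

/-- An ideal with zero locus the closed point has cohomological dimension at least the dimension. -/
theorem ringKrullDim_le_of_cdLE {R : Type u} [CommRing R] [IsNoetherianRing R] [IsLocalRing R] (J : Ideal R) {d : ℕ}
    (h : LocCoh.CdLE R J d) (hJm : J ≤ maximalIdeal R)
    (hJ : ∀ P : Ideal R, P.IsPrime → J ≤ P → P = maximalIdeal R) :
    ringKrullDim R ≤ (d : WithBot ℕ∞) := by
  have hm : LocCoh.CdLE R (maximalIdeal R) d := GrothLib.HLVT.cdLE_of_radical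
    (fun P hP => ⟨fun hle => (hJ P hP hle).ge, fun hle => hJm.trans hle⟩) h
  obtain ⟨c, hc⟩ : ∃ c : ℕ, ringKrullDim R = c := by
    obtain ⟨z, hz⟩ := WithBot.ne_bot_iff_exists.1
      (ne_bot_of_le_ne_bot (by decide) (ringKrullDim_nonneg_of_nontrivial (R := R)))
    induction z using ENat.recTopCoe with
    | coe c => exact ⟨c, hz.symm⟩
    | top => exact absurd (hz ▸ ringKrullDim_lt_top (R := R)) (lt_irrefl _)
  rw [hc]
  have hnt := (GrothLib.LC.not_finite_and_nontrivial_H_maximal c R
    ((Module.supportDim_self_eq_ringKrullDim (R := R)).trans hc)).1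
  by_contra hlt
  have : d < c := by
    by_contra hle
    exact hlt (by exact_mod_cast (not_lt.1 hle))
  exact not_subsingleton_iff_nontrivial.2 hnt (hm R c this)

theorem comap_mk_maximalIdeal {R : Type u} [CommRing R] [IsLocalRing R] (K : Ideal R) [IsLocalRing (R ⧸ K)] :
    (maximalIdeal (R ⧸ K)).comap (Ideal.Quotient.mk K) = maximalIdeal R :=
  IsLocalRing.eq_maximalIdeal (Ideal.comap_isMaximal_of_surjective _ Ideal.Quotient.mk_surjective)

variable {A : Type u} [CommRing A] [IsNoetherianRing A]

/-- The dimension between a prime and a minimal prime above it and `I` is at most the cohomological dimension. -/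
theorem dimBetween_le_of_minimal (I : Ideal A) {d : ℕ} (hcd : LocCoh.CdLE A I d) (p q : PrimeSpectrum A)
    (hq : q.asIdeal ∈ (p.asIdeal ⊔ I).minimalPrimes) :
    Formal2.dimBetween A p.asIdeal q.asIdeal ≤ (d : WithBot ℕ∞) := by
  let R := Localization.AtPrime q.asIdeal
  let K := p.asIdeal.map (algebraMap A R)
  have hpq : p.asIdeal ≤ q.asIdeal := le_sup_left.trans hq.1.2
  have hIq : I ≤ q.asIdeal := le_sup_right.trans hq.1.2
  have hK : K ≤ maximalIdeal R := by
    rw [← Localization.AtPrime.map_eq_maximalIdeal]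
    exact Ideal.map_mono hpq
  haveI : IsNoetherianRing R := IsLocalization.isNoetherianRing q.asIdeal.primeCompl _ inferInstance
  haveI : Nontrivial (R ⧸ K) :=
    Ideal.Quotient.nontrivial_iff.2 (ne_top_of_le_ne_top (maximalIdeal.isMaximal R).ne_top hK)
  haveI : IsLocalRing (R ⧸ K) := IsLocalRing.of_surjective' (Ideal.Quotient.mk K) Ideal.Quotient.mk_surjective
  refine ringKrullDim_le_of_cdLE (I.map (algebraMap A (R ⧸ K))) (GrothLib.HLVT.cdLE_map hcd) ?_ fun P hP hle => ?_
  · rw [Ideal.map_le_iff_le_comap]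
    intro a ha
    show algebraMap A (R ⧸ K) a ∈ maximalIdeal (R ⧸ K)
    rw [IsScalarTower.algebraMap_apply A R (R ⧸ K)]
    exact (comap_mk_maximalIdeal K).ge
      ((IsLocalization.AtPrime.to_map_mem_maximal_iff R q.asIdeal a).2 (hIq ha))
  · haveI := hP
    let Q := P.comap (Ideal.Quotient.mk K)
    have hQ : q.asIdeal ≤ Q.comap (algebraMap A R) := hq.2 ⟨inferInstance, sup_le (fun a ha => by
        show Ideal.Quotient.mk K (algebraMap A R a) ∈ P
        rw [Ideal.Quotient.eq_zero_iff_mem.2 (Ideal.mem_map_of_mem _ ha)]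
        exact zero_mem _) (by
        rw [IsScalarTower.algebraMap_eq A R (R ⧸ K), ← Ideal.map_map, Ideal.map_le_iff_le_comap,
          Ideal.map_le_iff_le_comap] at hle
        exact hle)⟩
      fun a ha => (IsLocalization.AtPrime.to_map_mem_maximal_iff R q.asIdeal a).1
        (le_maximalIdeal (Ideal.IsPrime.ne_top (I := Q) inferInstance) ha)
    have hQm : Q = maximalIdeal R := le_antisymm (le_maximalIdeal (Ideal.IsPrime.ne_top inferInstance)) (by
      rw [← Localization.AtPrime.map_eq_maximalIdeal, Ideal.map_le_iff_le_comap]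
      exact hQ)
    refine le_antisymm (le_maximalIdeal hP.ne_top) fun y hy => ?_
    obtain ⟨y, rfl⟩ := Ideal.Quotient.mk_surjective y
    exact hQm.ge ((comap_mk_maximalIdeal K).le hy)

variable {ω : Dual.D A} (hω : Dual.IsDualizing A ω)

include hω in
/-- **Condition (6).** -/
theorem cond_six (I : Ideal A) (d : ℕ) (hcd : LocCoh.CdLE A I d) (M : Type u) [AddCommGroup M] [Module A M]
    [Module.Finite A M] (s : ℕ) (q : PrimeSpectrum A) (hIq : I ≤ q.asIdeal)
    (hc : ∀ p : PrimeSpectrum A, p ≤ q → ¬ I ≤ p.asIdeal →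
      (s : ℕ∞) < LocCoh.depth (Localization.AtPrime p.asIdeal) (LocalizedModule p.asIdeal.primeCompl M) ∨
        (((d + s : ℕ) : ℕ∞) : WithBot ℕ∞) < ((LocCoh.depth (Localization.AtPrime p.asIdeal)
          (LocalizedModule p.asIdeal.primeCompl M) : ℕ∞) : WithBot ℕ∞) + Formal2.dimBetween A p.asIdeal q.asIdeal)
    (P : PrimeSpectrum (AdicCompletion (I.map (algebraMap A (Localization.AtPrime q.asIdeal))) (Localization.AtPrime q.asIdeal)))
    (hIP : ¬ (I.map (algebraMap A (AdicCompletion (I.map (algebraMap A (Localization.AtPrime q.asIdeal))) (Localization.AtPrime q.asIdeal)))) ≤ P.asIdeal)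
    (hcl : ∀ q' : PrimeSpectrum (AdicCompletion (I.map (algebraMap A (Localization.AtPrime q.asIdeal))) (Localization.AtPrime q.asIdeal)), P ≤ q' →
      (I.map (algebraMap A (AdicCompletion (I.map (algebraMap A (Localization.AtPrime q.asIdeal))) (Localization.AtPrime q.asIdeal)))) ≤ q'.asIdeal →
      q'.asIdeal.IsMaximal) :
    (s : ℕ∞) < LocCoh.depth (Localization.AtPrime P.asIdeal) (LocalizedModule P.asIdeal.primeCompl
      (AdicCompletion (I.map (algebraMap A (Localization.AtPrime q.asIdeal))) (LocalizedModule q.asIdeal.primeCompl M))) := by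
  let R := Localization.AtPrime q.asIdeal
  let IR := I.map (algebraMap A R)
  let B := AdicCompletion IR R
  let N := LocalizedModule q.asIdeal.primeCompl M
  haveI : IsNoetherianRing R := IsLocalization.isNoetherianRing q.asIdeal.primeCompl _ inferInstance
  have hIRm : IR ≤ maximalIdeal R := by
    rw [← Localization.AtPrime.map_eq_maximalIdeal]
    exact Ideal.map_mono hIq
  haveI : IsLocalRing B := GrothLib.AdicExtra.isLocalRing_completion (I := IR)
    (ne_top_of_le_ne_top (maximalIdeal.isMaximal R).ne_top hIRm)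
  have hmax : (maximalIdeal R).map (algebraMap R B) = maximalIdeal B :=
    IsLocalRing.eq_maximalIdeal (AdicCompletion.isMaximal_map_of_le IR (maximalIdeal R) hIRm IR.fg_of_isNoetherianRing)
  haveI : IsLocalHom (algebraMap R B) := ((IsLocalRing.local_hom_TFAE _).out 0 2).mpr hmax.le
  haveI : Module.Flat A B := flat_over_base q
  haveI : Module.Finite R N := Module.Finite.of_isLocalizedModule q.asIdeal.primeCompl
    (LocalizedModule.mkLinearMap q.asIdeal.primeCompl M)
  let eN : B ⊗[R] N ≃ₗ[B] AdicCompletion IR N := AdicCompletion.ofTensorProductEquivOfFiniteNoetherian IR N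
  haveI : Module.Finite B (AdicCompletion IR N) := Module.Finite.equiv eN
  haveI : IsNoetherianRing (Localization.AtPrime P.asIdeal) :=
    IsLocalization.isNoetherianRing P.asIdeal.primeCompl _ inferInstance
  rcases subsingleton_or_nontrivial (LocalizedModule P.asIdeal.primeCompl (AdicCompletion IR N)) with hs | hs
  · haveI := hs
    rw [GrothLib.Depth.depth_eq_top_of_subsingleton]
    exact ENat.natCast_lt_top s
  have hPsupp : P ∈ Module.support B (AdicCompletion IR N) := Module.mem_support_iff.2 hs
  let L := IsLocalizedModule.mapEquiv P.asIdeal.primeCompl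
    (LocalizedModule.mkLinearMap P.asIdeal.primeCompl (B ⊗[R] N))
    (LocalizedModule.mkLinearMap P.asIdeal.primeCompl (AdicCompletion IR N)) (Localization.AtPrime P.asIdeal) eN
  haveI : Module.Finite (Localization.AtPrime P.asIdeal) (LocalizedModule P.asIdeal.primeCompl (AdicCompletion IR N)) :=
    Module.Finite.of_isLocalizedModule P.asIdeal.primeCompl (LocalizedModule.mkLinearMap P.asIdeal.primeCompl _)
  haveI : Module.Finite (Localization.AtPrime P.asIdeal) (LocalizedModule P.asIdeal.primeCompl (B ⊗[R] N)) :=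
    Module.Finite.of_isLocalizedModule P.asIdeal.primeCompl (LocalizedModule.mkLinearMap P.asIdeal.primeCompl _)
  -- the dualizing complex of the completion
  obtain ⟨ωR, hωR, hnR, hloc⟩ := GrothLib.FaltingsT3.exists_localized_EH_equiv hω q M
  haveI : Module.Flat R B := inferInstance
  haveI := GrothLib.DR.preservesFiniteLimits_extendScalars (algebraMap R B) GrothLib.DR.flat_algebraMap
  obtain ⟨lo, hi, hab⟩ := hωR.finite_injective_dimension
  haveI : ωR.IsGE lo := isGE_of_hom_ring ωR lo fun i h => hab R i (Or.inl h)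
  have hωB : Dual.IsDualizing B ((bcD B).obj ωR) := isDualizing_bcD B hωR hi fun m _ i h =>
    subsingleton_residue_bcD B hωR lo hi hab (maximalIdeal R) m (hmax.trans (IsLocalRing.eq_maximalIdeal ‹_›).symm) i
      (hab _ i (Or.inr h))
  have hnB : Dual.IsNormalized B ((bcD B).obj ωR) := fun i h =>
    subsingleton_residue_bcD B hωR lo hi hab (maximalIdeal R) (maximalIdeal B) hmax i (hnR i h)
  -- the degree carrying the depth
  have hP' : P ∈ Module.support B (B ⊗[R] N) := by rw [eN.support_eq]; exact hPsupp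
  obtain ⟨δ, hδ, hmem, -, -⟩ := exists_degrees hωB P (B ⊗[R] N) hP'
  have hdepth : LocCoh.depth (Localization.AtPrime P.asIdeal) (LocalizedModule P.asIdeal.primeCompl (AdicCompletion IR N)) = δ :=
    ((GrothLib.Depth.idealDepth_eq_of_equiv (IsLocalRing.maximalIdeal _) L).symm).trans hδ
  have hdimP := GrothLib.DualRing.ringKrullDim_quotient_eq hωB hnB P.asIdeal
  let e := (-deg hωB P.asIdeal).toNat
  have hdegP : deg hωB P.asIdeal ≤ 0 := by
    have h := (degS_strictMono hωB).monotone (show P ≤ closedPoint B from le_maximalIdeal P.2.ne_top)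
    rw [show degS hωB (closedPoint B) = 0 from deg_maximal hωB hnB] at h
    exact h
  have hed : e ≤ d := by
    haveI : Nontrivial (B ⧸ P.asIdeal) := Ideal.Quotient.nontrivial_iff.2 P.2.ne_top
    haveI : IsLocalRing (B ⧸ P.asIdeal) :=
      IsLocalRing.of_surjective' (Ideal.Quotient.mk P.asIdeal) Ideal.Quotient.mk_surjective
    have h : ringKrullDim (B ⧸ P.asIdeal) ≤ (d : WithBot ℕ∞) := by
      refine ringKrullDim_le_of_cdLE (I.map (algebraMap A (B ⧸ P.asIdeal))) (GrothLib.HLVT.cdLE_map hcd) ?_
        fun Q hQ hle => ?_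
      · rw [Ideal.map_le_iff_le_comap]
        intro a ha
        show algebraMap A (B ⧸ P.asIdeal) a ∈ maximalIdeal _
        rw [IsScalarTower.algebraMap_apply A B (B ⧸ P.asIdeal)]
        refine (comap_mk_maximalIdeal P.asIdeal).ge ?_
        rw [IsScalarTower.algebraMap_apply A R B]
        exact hmax.le (Ideal.mem_map_of_mem _ ((IsLocalization.AtPrime.to_map_mem_maximal_iff R q.asIdeal a).2 (hIq ha)))
      · haveI := hQ
        have hmQ := hcl ⟨Q.comap (Ideal.Quotient.mk P.asIdeal), inferInstance⟩ (fun a ha => by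
            show Ideal.Quotient.mk P.asIdeal a ∈ Q
            rw [Ideal.Quotient.eq_zero_iff_mem.2 ha]
            exact zero_mem _) (by
            rw [IsScalarTower.algebraMap_eq A B (B ⧸ P.asIdeal), ← Ideal.map_map,
              Ideal.map_le_iff_le_comap] at hle
            exact hle)
        have hQm : Q.comap (Ideal.Quotient.mk P.asIdeal) = maximalIdeal B := IsLocalRing.eq_maximalIdeal hmQ
        refine le_antisymm (le_maximalIdeal hQ.ne_top) fun y hy => ?_
        obtain ⟨y, rfl⟩ := Ideal.Quotient.mk_surjective y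
        exact hQm.ge ((comap_mk_maximalIdeal P.asIdeal).le hy)
    rw [hdimP] at h
    exact_mod_cast h
  -- descend to the base
  let j : ℤ := deg hωB P.asIdeal - δ
  obtain ⟨eB⟩ := nonempty_bcD_inD (A := R) B N
  let EB : EH ((bcD B).obj ωR) (Dual.inD B (B ⊗[R] N)) j ≃ₗ[B] B ⊗[R] EH ωR (Dual.inD R N) j :=
    (Linear.homCongr B eB.symm (shiftBc B ωR j).symm) ≪≫ₗ
      (θEquiv B (isBC_inD B ωR lo (j - lo + 1).toNat N j (by omega))).symm
  obtain ⟨eA⟩ := hloc j
  obtain ⟨X, hX, ⟨eX⟩⟩ := exists_finite_hom_equiv hω (Dual.inD A M) (finite_HD_inD M) (deg hω q.asIdeal + j)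
  let Etot : EH ((bcD B).obj ωR) (Dual.inD B (B ⊗[R] N)) j ≃ₗ[B] B ⊗[A] X :=
    EB.trans ((AlgebraTensorModule.congr (LinearEquiv.refl B B)
      (eA.trans (AlgebraTensorModule.congr (LinearEquiv.refl R R) eX.symm))).trans
        (AlgebraTensorModule.cancelBaseChange A R B B X))
  have hPX : P ∈ Module.support B (B ⊗[A] X) := by rw [← Etot.support_eq]; exact hmem
  let p0 : PrimeSpectrum A := PrimeSpectrum.comap (algebraMap A B) P
  have hp0 : p0 ∈ Module.support A (EH ω (Dual.inD A M) (deg hω q.asIdeal - ((e + δ : ℕ) : ℤ))) := by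
    rw [show deg hω q.asIdeal - ((e + δ : ℕ) : ℤ) = deg hω q.asIdeal + j by push_cast; omega, ← eX.support_eq]
    by_contra hn
    haveI : Subsingleton (LocalizedModule (P.asIdeal.comap (algebraMap A B)).primeCompl X) :=
      Module.notMem_support_iff.1 hn
    exact Module.notMem_support_iff.2 (GrothLib.SkFlat5.subsingleton_tensor_right (A := A) (B := B) X B P.asIdeal) hPX
  have hIp0 : ¬ I ≤ p0.asIdeal := fun h => hIP (Ideal.map_le_iff_le_comap.2 h)
  obtain ⟨a, ha, hak⟩ := depth_add_deg_le hω M (fun _ _ => rfl) (e + δ) hIp0 hp0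
  have hp0q : p0 ≤ q := comap_le q P.asIdeal
  obtain ⟨δ', e', hδ', -, haδ, -⟩ := depth_add_dim_le hω q hmax M P p0 rfl a (e + δ) ha hak
  have hδδ : δ' = δ := by
    let eM : B ⊗[A] M ≃ₗ[B] B ⊗[R] N :=
      (AlgebraTensorModule.cancelBaseChange A R B B M).symm.trans
        (AlgebraTensorModule.congr (LinearEquiv.refl B B)
          (LocalizedModule.equivTensorProduct q.asIdeal.primeCompl M).symm)
    let LM := IsLocalizedModule.mapEquiv P.asIdeal.primeCompl
      (LocalizedModule.mkLinearMap P.asIdeal.primeCompl (B ⊗[A] M))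
      (LocalizedModule.mkLinearMap P.asIdeal.primeCompl (B ⊗[R] N)) (Localization.AtPrime P.asIdeal) eM
    haveI : Module.Finite (Localization.AtPrime P.asIdeal) (LocalizedModule P.asIdeal.primeCompl (B ⊗[A] M)) :=
      Module.Finite.of_isLocalizedModule P.asIdeal.primeCompl (LocalizedModule.mkLinearMap P.asIdeal.primeCompl _)
    have h := hδ'.symm.trans ((GrothLib.Depth.idealDepth_eq_of_equiv (IsLocalRing.maximalIdeal _) LM).trans hδ)
    exact_mod_cast h
  rw [hdepth]
  rcases hc p0 hp0q hIp0 with h | h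
  · rw [ha] at h
    have : s < a := by exact_mod_cast h
    exact_mod_cast (show s < δ by omega)
  · rw [ha, GrothLib.AlgzBoot3.dimBetween_deg hω hp0q] at h
    have h' : d + s < a + (deg hω q.asIdeal - deg hω p0.asIdeal).toNat := by exact_mod_cast h
    have hdeg : deg hω p0.asIdeal ≤ deg hω q.asIdeal := (degS_strictMono hω).monotone hp0q
    exact_mod_cast (show s < δ by omega)

end GrothLib.BootGlob3
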