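import Groth.Agent.Lib.BootGlob3.Tower
import Groth.Agent.Lib.BootGlob3.Compare
import Groth.Agent.Lib.BootGlob3.Six
import Groth.Agent.Lib.BootUnif3.Limit
import Groth.Agent.Lib.AlgzBoot3.Basic
import Groth.Agent.Lib.DerComplBij3.General

/-!
# Formal cohomology with a dualizing complex
-/

set_option autoImplicit false
set_option linter.style.haveILetI false
set_option linter.unusedSectionVars false

universe u

open CategoryTheory CategoryTheory.Limits AlgebraicGeometry DerCA Formal2 GrothLib.RGamma GrothLib.DualCx22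
  PrimeSpectrum GrothLib.AlgzFormal3 GrothLib.DualRing

attribute [local instance] HasDerivedCategory.standard

noncomputable section

namespace GrothLib.BootGlob3

section Punctured

variable {A : Type u} [CommRing A] [IsNoetherianRing A] {I : Ideal A} {fs : List A} {M : ModuleCat.{u} A}

/-- Formal cohomology on a punctured spectrum from the bijectivity of the completion. -/
theorem formalCohBijective_ml [IsAdicComplete I A] [DRing.HasDerivedCompletion I]
    (J : Ideal A) [DRing.HasRgammaI J] [Module.Finite A M] (hfs : Ideal.span {x | x ∈ fs} = J) (i : ℕ)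
    (hlift : ∀ k : ℤ, k ≤ i → Lifts I fs M k)
    (hbij : ∀ k : ℤ, k ≤ (i : ℤ) + 1 → Function.Bijective ((DerivedCategory.homologyFunctor (ModuleCat.{u} A) k).map
      (DRing.toDerivedCompletion I ((DRing.RgammaI J).obj (Dual.inD A M)))).hom) :
    Formal2.FormalCohBijective A I M i (LocCoh.puncturedOpen A J) := by
  have hT := fun k (hk : k ≤ (i : ℤ) + 1) =>
    bij_extCechH_ml J hfs k (hlift (k - 1) (by omega)) (hbij k hk) (M := M)
  obtain ⟨eV, heV⟩ := PunctSec7.exists_HV_equiv J i
  rcases i with _ | p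
  · -- sections
    haveI := GrothLib.AdicLim.isAdicComplete_of_finite I M
    obtain ⟨c, hcs, hck, hcn⟩ := exists_c (J := J) hfs
    let π : ∀ n, M ⟶ quotMod I M (n + 1) := fun n => quotHom I M (n + 1)
    let τ : ∀ n, quotMod I M (n + 1 + 1) ⟶ quotMod I M (n + 1) := fun n => quotT I M (n + 1)
    have hπτ : ∀ n, π (n + 1) ≫ τ n = π n := fun n => ModuleCat.hom_ext (LinearMap.ext fun x => rfl)
    have hsm : ∀ {N P : ModuleCat.{u} A} (φ : N ⟶ P) (m : N),
        Formal2Sec7.sm J φ.hom (Formal2Sec7.j J N m) = Formal2Sec7.j J P (φ.hom m) := fun φ m => Formal2Sec7.sm_j J _ m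
    have inj : ∀ x : Formal2Sec7.Sc J M, (∀ n, Formal2Sec7.sm J (π n).hom x = 0) → x = 0 := by
      intro x hx
      obtain ⟨m, rfl⟩ := (hck M x).1 ((hT 1 (by omega)).1 _ fun n => by rw [← hcn, hx n, map_zero])
      choose z hz using fun n => (mem_range_aug_iff hfs (quotMod I M (n + 1)) ((π n).hom m)).2 (by
        rw [← hsm]; exact hx n)
      obtain ⟨w, hw⟩ := (hT 0 (by omega)).2 z fun n => (ExtCech.aug_injective_and_range _ fs).1 (by
        rw [ExtCech.aug_naturality_apply, hz (n + 1), hz n]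
        rfl)
      have hm : m = (ExtCech.aug M fs).hom w := by
        refine sub_eq_zero.1 (IsHausdorff.haus (I := I) inferInstance _ fun n => ?_)
        rw [SModEq.zero]
        cases n with
        | zero => simp
        | succ n =>
          refine (Submodule.Quotient.mk_eq_zero _).1 ?_
          rw [Submodule.Quotient.mk_sub]
          refine sub_eq_zero.2 ?_
          change (π n).hom m = (π n).hom ((ExtCech.aug M fs).hom w)
          rw [← hz n, ← hw n, ExtCech.aug_naturality_apply]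
      rw [hm]
      exact (mem_range_aug_iff hfs M _).1 ⟨w, rfl⟩
    have surj : ∀ y : ∀ n, Formal2Sec7.Sc J (quotMod I M (n + 1)),
        (∀ n, Formal2Sec7.sm J (τ n).hom (y (n + 1)) = y n) → ∃ x, ∀ n, Formal2Sec7.sm J (π n).hom x = y n := by
      intro y hy
      obtain ⟨h, hh⟩ := (hT 1 (by omega)).2 (fun n => c _ (y n)) fun n => by rw [← hcn, hy n]
      obtain ⟨s₀, rfl⟩ := hcs M h
      let w := fun n => y n - Formal2Sec7.sm J (π n).hom s₀
      choose m hm using fun n => (hck _ (w n)).1 (by rw [map_sub, hcn, hh n, sub_self])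
      have hwτ : ∀ n, Formal2Sec7.sm J (τ n).hom (w (n + 1)) = w n := fun n => by
        simp only [w]
        rw [map_sub, hy n, ← Formal2Sec7.sm_comp, ← ModuleCat.hom_comp, hπτ]
      let H : ∀ n, Submodule A (quotMod I M (n + 1)) := fun n => LinearMap.range (ExtCech.aug (quotMod I M (n + 1)) fs).hom
      let T' := fun n => (τ n).hom
      have htH : ∀ n, (H (n + 1)).map (T' n) ≤ H n := fun n => by
        rintro _ ⟨_, ⟨z, rfl⟩, rfl⟩
        exact ⟨_, ExtCech.aug_naturality_apply (τ n) fs z⟩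
      have himg : ∀ K n N (h : n + 1 ≤ N), N = n + 1 + K → ∀ y ∈ subImg T' H K n, ∃ z : extCechH fs (quotMod I M N) 0,
          (quotTr I M h).hom ((ExtCech.aug (quotMod I M N) fs).hom z) = y := by
        intro K
        induction K with
        | zero =>
          rintro n N h hN y ⟨z, rfl⟩
          obtain rfl : N = n + 1 := by omega
          exact ⟨z, by rw [show quotTr I M h = 𝟙 _ from quotTr_self I M _]; rfl⟩
        | succ K ih =>
          rintro n N h hN _ ⟨y', hy', rfl⟩
          obtain ⟨z, rfl⟩ := ih (n + 1) N (by omega) (by omega) y' hy'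
          exact ⟨z, (ConcreteCategory.congr_hom (quotTr_succ I M (n := n + 1) (m := N) (by omega)) _).symm⟩
      have hstab := stab_of_bounds (t := T') (H := H) htH
        (fun n => (LinearMap.range (ExtCech.aug M fs).hom).map (π n).hom)
        (fun n => by
          rintro _ ⟨_, ⟨z, rfl⟩, rfl⟩
          exact ⟨_, ExtCech.aug_naturality_apply (π n) fs z⟩)
        (fun n => by
          rintro _ ⟨m, hm, rfl⟩
          exact ⟨_, ⟨m, hm, rfl⟩, ConcreteCategory.congr_hom (hπτ n) m⟩)
        (fun n => by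
          obtain ⟨N, hN, hl⟩ := hlift 0 (by omega) (n + 1)
          refine ⟨N - (n + 1), fun y hy => ?_⟩
          obtain ⟨z, rfl⟩ := himg (N - (n + 1)) n N hN (by omega) y hy
          obtain ⟨w, hw⟩ := hl z
          refine ⟨(ExtCech.aug M fs).hom w, ⟨w, rfl⟩, ?_⟩
          rw [← ExtCech.aug_naturality_apply, ← ExtCech.aug_naturality_apply]
          exact congrArg _ hw)
      obtain ⟨b, hb, hbt⟩ := exists_compatible_ml (t := T') (H := H) htH hstab m fun n => by
        rw [mem_range_aug_iff hfs, map_sub, ← hsm, hm, hm, hwτ, sub_self]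
      choose f hf using fun n => Submodule.Quotient.mk_surjective _ (b n)
      let g : ℕ → M := fun n => Nat.casesOn n 0 f
      have hg : ∀ n, g n ≡ g (n + 1) [SMOD (I ^ n • ⊤ : Submodule A M)] := fun n => by
        cases n with
        | zero => rw [SModEq.sub_mem]; simp
        | succ n =>
          change Submodule.Quotient.mk (f n) = Submodule.Quotient.mk (f (n + 1))
          rw [hf n, ← hbt n, ← hf (n + 1)]
          rfl
      obtain ⟨m₀, hm₀⟩ := (AdicCompletion.of_bijective I M).2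
        (AdicCompletion.mk I M (AdicCompletion.AdicCauchySequence.mk I M g hg))
      have hbm : ∀ n, (π n).hom m₀ = b n := fun n => by
        rw [← hf n]
        exact congrArg (fun z : AdicCompletion I M => z.val (n + 1)) hm₀
      refine ⟨s₀ + Formal2Sec7.j J M m₀, fun n => ?_⟩
      have hd : Formal2Sec7.j J _ (b n) = w n := by
        rw [← hm n, ← sub_eq_zero, ← map_sub]
        exact (mem_range_aug_iff hfs _ _).1 (hb n)
      rw [map_add, hsm, hbm, hd]
      exact add_sub_cancel _ _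
    let σ : ∀ N : ModuleCat.{u} A, HV A N 0 (LocCoh.puncturedOpen A J) ≃+ Formal2Sec7.Sc J N := fun N =>
      (eV N).trans (Punctured.H0Sec J (ModuleCat.of (CommRingCat.of A) N)).toAddEquiv
    have hσ : ∀ {N P : ModuleCat.{u} A} (φ : N ⟶ P) x,
        σ P (HVmap A φ.hom 0 _ x) = Formal2Sec7.sm J φ.hom (σ N x) := fun {N P} φ x =>
      (congrArg (Punctured.H0Sec J (ModuleCat.of (CommRingCat.of A) P)) (heV N P φ.hom x)).trans
        (Punctured.H0Sec_map J (ModuleCat.ofHom (R := CommRingCat.of A) φ.hom) (eV N x))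
    refine ⟨fun x x' hx => (σ M).injective (sub_eq_zero.1 (inj _ fun n => ?_)), fun y hy => ?_⟩
    · rw [map_sub, ← hσ, ← hσ]
      exact sub_eq_zero.2 (congrArg _ (hx n))
    · obtain ⟨x, hx⟩ := surj (fun n => σ (quotMod I M (n + 1)) (y n)) fun n => by
        rw [← hσ]
        exact congrArg _ (hy n)
      refine ⟨(σ M).symm x, fun n => (σ (quotMod I M (n + 1))).injective ?_⟩
      refine (hσ (π n) _).trans ?_
      rw [AddEquiv.apply_symm_apply]
      exact hx n
  · -- higher degrees
    obtain ⟨e, he⟩ := exists_e (J := J) hfs p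
    let σ : ∀ N : ModuleCat.{u} A, HV A N (p + 1) (LocCoh.puncturedOpen A J) ≃+ extCechH fs N ((p : ℤ) + 2) := fun N =>
      (eV N).trans (e N)
    have hσ : ∀ {N P : ModuleCat.{u} A} (φ : N ⟶ P) x,
        σ P (HVmap A φ.hom (p + 1) _ x) = tMap fs φ _ (σ N x) := fun {N P} φ x =>
      (congrArg (e P) (heV N P φ.hom x)).trans (he φ _)
    obtain ⟨inj, surj⟩ := hT ((p : ℤ) + 2) (by omega)
    refine ⟨fun x x' hx => (σ M).injective (sub_eq_zero.1 (inj _ fun n => ?_)), fun y hy => ?_⟩
    · rw [map_sub, ← hσ, ← hσ]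
      exact sub_eq_zero.2 (congrArg _ (hx n))
    · obtain ⟨x, hx⟩ := surj (fun n => σ (quotMod I M (n + 1)) (y n)) fun n => by
        rw [← hσ]
        exact congrArg _ (hy n)
      refine ⟨(σ M).symm x, fun n => (σ (quotMod I M (n + 1))).injective ?_⟩
      refine (hσ (quotHom I M (n + 1)) _).trans ?_
      rw [AddEquiv.apply_symm_apply]
      exact hx n

end Punctured

variable {A : Type u} [CommRing A] [IsNoetherianRing A] {I : Ideal A} {d s : ℕ} {M : Type u} [AddCommGroup M] [Module A M]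
  [Module.Finite A M] {ω : Dual.D A} (hω : Dual.IsDualizing A ω)

include hω in
/-- The lifting property of the quotients from the conditions. -/
theorem lifts_of_cond {T : Set (PrimeSpectrum A)} (S : BootUnif3.Cond I d s M T) (J : Ideal A) (fs : List A)
    (hfs : Ideal.span {x | x ∈ fs} = J) (hTJ : T ⊆ zeroLocus (J : Set A))
    (hJT : zeroLocus (J : Set A) ∩ zeroLocus (I : Set A) ⊆ T) (k : ℤ) (hk : k ≤ s) :
    Lifts I fs (ModuleCat.of A M) k := by
  rcases lt_or_ge k 0 with hk0 | hk0
  · exact lifts_of_neg I fs _ k hk0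
  obtain ⟨j, rfl⟩ := Int.eq_ofNat_of_zero_le hk0
  obtain ⟨e, he⟩ := exists_cmp J fs hfs j
  intro n
  obtain ⟨m, h, hlift⟩ := BootUnif3.exists_lift hω S j (by omega) n
  refine ⟨m, h, fun x => ?_⟩
  obtain ⟨J₁, hJ₁, e₁, he₁⟩ := exists_toHT_of_torsion I hJT hTJ j (quotMod I (ModuleCat.of A M) m)
    (fun y => ⟨m, fun a ha => by
      obtain ⟨y, rfl⟩ := Submodule.Quotient.mk_surjective _ y
      exact (Submodule.Quotient.mk_eq_zero _).2 (Submodule.smul_mem_smul ha trivial)⟩) (e _ x)
  obtain ⟨z, hz⟩ := hlift m le_rfl (LCSupp.toHT j J₁ hJ₁ _ e₁)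
  obtain ⟨K, hK, e₂, rfl⟩ := LCSupp.exists_toHT z
  have hz' := toHT_mono hTJ (((LCSupp.map_toHT (BootUnif3.powQuot I M n).g e₂).symm.trans hz).trans
    (LCSupp.map_toHT (BootUnif3.powQuotMap I M (h.trans le_rfl)).τ₃ e₁))
  refine ⟨(e _).symm (LCSupp.toHT j K (hK.trans hTJ) _ e₂), (e _).injective ?_⟩
  rw [he, he, AddEquiv.apply_symm_apply, ← he₁]
  exact (LCSupp.map_toHT (BootUnif3.powQuot I M n).g e₂).trans (hz'.trans
    (LCSupp.map_toHT (BootUnif3.powQuotMap I M (h.trans le_rfl)).τ₃ e₁).symm)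

include hω in
/-- Bijectivity for `J` from bijectivity for a smaller ideal with the same trace on `V(I)`. -/
theorem bijective_of_sub [IsAdicComplete I A] [DRing.HasDerivedCompletion I] (J J₀ : Ideal A) [DRing.HasRgammaI J]
    [DRing.HasRgammaI J₀] (hle : J₀ ≤ J)
    (htr : zeroLocus (J₀ : Set A) ∩ zeroLocus (I : Set A) = zeroLocus (J : Set A) ∩ zeroLocus (I : Set A))
    (hgood : ∀ p : PrimeSpectrum A, J₀ ≤ p.asIdeal → ¬ J ≤ p.asIdeal → (s : ℕ∞) < AlgzBoot3.dep M p)
    (hJ₀ : ∀ k : ℤ, k ≤ s → Function.Bijective ((DerivedCategory.homologyFunctor (ModuleCat.{u} A) k).map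
      (DRing.toDerivedCompletion I ((DRing.RgammaI J₀).obj (Dual.inD A M)))).hom)
    (k : ℤ) (hk : k ≤ s) : Function.Bijective ((DerivedCategory.homologyFunctor (ModuleCat.{u} A) k).map
      (DRing.toDerivedCompletion I ((DRing.RgammaI J).obj (Dual.inD A M)))).hom := by
  refine DerComplBij3.homology_bijective I J _ (isDerivedComplete_of_finite I _ (finite_HD_inD M)) s (fun j hj => ?_) k hk
  haveI := hasRgammaI I
  haveI := hasRgammaI (J ⊔ I)
  have hrad : (J ⊔ I).radical = (J₀ ⊔ I).radical := by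
    rw [← vanishingIdeal_zeroLocus_eq_radical, zeroLocus_sup, ← htr, ← zeroLocus_sup,
      vanishingIdeal_zeroLocus_eq_radical]
  obtain ⟨e₁⟩ := DerComplBij3.nonempty_completion_iso_sup I J (J ⊔ I) Ideal.le_radical Ideal.le_radical (Dual.inD A M)
  obtain ⟨e₂⟩ := DerComplBij3.nonempty_completion_iso_sup I J₀ (J ⊔ I) (Ideal.le_radical.trans hrad.ge)
    (Ideal.le_radical.trans hrad.le) (Dual.inD A M)
  refine GrothLib.RGamma.isPowerTorsion_of_linearEquiv J
    ((LinearEquiv.ofBijective _ (hJ₀ j hj)).trans (GrothLib.RGamma.hdIso (e₂.symm ≪≫ e₁) j)) ?_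
  rcases lt_or_ge j 0 with hj0 | hj0
  · haveI := KillCompl3.subsingleton_HD_rgamma_neg J₀ M j hj0
    exact fun x => ⟨0, fun a _ => (KillCompl3.subsingleton_HD_rgamma_neg J₀ M j hj0).elim _ _⟩
  obtain ⟨i, rfl⟩ := Int.eq_ofNat_of_zero_le hj0
  obtain ⟨e⟩ := KillCompl3.nonempty_HD_rgamma J₀ M i
  refine GrothLib.RGamma.isPowerTorsion_of_linearEquiv J e.symm ?_
  exact LC.isPowerTorsion_of_surjective J _ (AlgzBoot3.bijective_hmap hω hle hgood i (by omega)).2
    (LC.isPowerTorsion J i _)

theorem res_map {N : Type u} [AddCommGroup N] [Module A N] (φ : M →ₗ[A] N) (i : ℕ)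
    {V V' : (Spec (CommRingCat.of A)).Opens} (h : V' ≤ V) (x : HV A M i V) :
    HVres A N i h (HVmap A φ i V x) = HVmap A φ i V' (HVres A M i h x) :=
  (ConcreteCategory.congr_hom (((Sheaf.cohomologyPresheafFunctor _ i).map
    ((SheafOfModules.toSheaf _).map (tmodMap A φ))).naturality (homOfLE h).op) x).symm

include hω in
/-- **Formal cohomology.** -/
theorem formal_cohomology [IsAdicComplete I A] (J : Ideal A) (hIJ : I ≤ J) (hd : LocCoh.CdLE A I d)
    (h₂ : ∀ p : PrimeSpectrum A, ¬ I ≤ p.asIdeal →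
      (s : ℕ∞) < AlgzBoot3.dep M p ∨ ∀ q : PrimeSpectrum A, p ≤ q → J ≤ q.asIdeal →
        (((d + s + 1 : ℕ) : ℕ∞) : WithBot ℕ∞) < ((AlgzBoot3.dep M p : ℕ∞) : WithBot ℕ∞) +
          Formal2.dimBetween A p.asIdeal q.asIdeal) :
    (∀ i : ℕ, i < s → Formal2.FormalCohBijective A I M i (LocCoh.puncturedOpen A J)) ∧
      Formal2.FormalCohColimBijective A I M s (LocCoh.puncturedOpen A J) := by
  haveI : DRing.HasDerivedCompletion I := GrothLib.DCpl.hasDerivedCompletion I (IsNoetherian.noetherian I)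
  haveI := hasRgammaI J
  have S : BootUnif3.Cond I d s M (zeroLocus (J : Set A)) := by
    refine ⟨hd, zeroLocus_anti_mono_ideal hIJ, (isClosed_zeroLocus _).stableUnderSpecialization,
      fun p r q hpr hrq hIp hIr _ hq => ?_, fun q hq P hIP hcl => ?_⟩
    · rcases h₂ p hIp with h | h
      · exact Or.inl h.le
      · exact Or.inr (lt_trans (by exact_mod_cast Nat.lt_succ_self (d + s)) (h q (hpr.trans hrq) hq))
    · refine cond_six hω I d hd M s q (hIJ.trans hq) (fun p hpq hIp => ?_) P hIP hcl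
      rcases h₂ p hIp with h | h
      · exact Or.inl h
      · exact Or.inr (lt_trans (by exact_mod_cast Nat.lt_succ_self (d + s)) (h q hpq hq))
  obtain ⟨J₀, hJ₀J, htr, hbij⟩ := DerComplBij3.exists_ideal_bijective_general I ⟨ω, hω⟩ J M (s + 1) d hd
    fun p hIp _ q hpq hJq _ => by
      rcases h₂ p hIp with h | h
      · exact Or.inl (by rw [Nat.cast_add, Nat.cast_one]; exact Order.add_one_le_of_lt h)
      · exact Or.inr (h q hpq hJq)
  have hgood : ∀ p : PrimeSpectrum A, J₀ ≤ p.asIdeal → ¬ J ≤ p.asIdeal → (s : ℕ∞) < AlgzBoot3.dep M p := by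
    intro p hp hpJ
    have hIp : ¬ I ≤ p.asIdeal := fun hI => hpJ (htr.le ⟨hp, hI⟩).1
    rcases h₂ p hIp with h | h
    · exact h
    obtain ⟨m, hm, hpm⟩ := Ideal.exists_le_maximal p.asIdeal p.2.ne_top
    obtain ⟨q, hq, -⟩ := Ideal.exists_minimalPrimes_le (show p.asIdeal ⊔ I ≤ m from
      sup_le hpm ((IsAdicComplete.le_jacobson_bot I).trans (sInf_le ⟨bot_le, hm⟩)))
    haveI := hq.1.1
    let q' : PrimeSpectrum A := ⟨q, hq.1.1⟩
    have hpq : p ≤ q' := le_sup_left.trans hq.1.2
    have hqI : I ≤ q := le_sup_right.trans hq.1.2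
    have hqJ : J ≤ q'.asIdeal := (htr.le ⟨fun a ha => hpq (hp ha), hqI⟩).1
    have h1 := dimBetween_le_of_minimal I hd p q' hq
    have h2 := h q' hpq hqJ
    rw [AlgzBoot3.dimBetween_deg hω hpq] at h1 h2
    induction hk : AlgzBoot3.dep M p using ENat.recTopCoe with
    | top => exact ENat.natCast_lt_top s
    | coe c =>
      rw [hk] at h2
      have h1' : (deg hω q'.asIdeal - deg hω p.asIdeal).toNat ≤ d := by exact_mod_cast h1
      have h2' : d + s + 1 < c + (deg hω q'.asIdeal - deg hω p.asIdeal).toNat := by exact_mod_cast h2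
      exact_mod_cast (show s < c by omega)
  have hfg : ∀ K : Ideal A, ∃ fs : List A, Ideal.span {x | x ∈ fs} = K := fun K => by
    obtain ⟨t, ht⟩ : K.FG := IsNoetherian.noetherian K
    refine ⟨t.toList, ?_⟩
    rw [← ht]
    congr 1
    ext x
    exact Finset.mem_toList
  have hsmall : ∀ J' : Ideal A, J' ≤ J₀ →
      zeroLocus (J' : Set A) ∩ zeroLocus (I : Set A) = zeroLocus (J : Set A) ∩ zeroLocus (I : Set A) →
      Formal2.FormalCohBijective A I M s (LocCoh.puncturedOpen A J') := by
    intro J' hle htr'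
    haveI := hasRgammaI J'
    obtain ⟨fs, hfs⟩ := hfg J'
    refine formalCohBijective_ml (M := ModuleCat.of A M) J' hfs s
      (fun k hk => lifts_of_cond hω S J' fs hfs (zeroLocus_anti_mono_ideal (hle.trans hJ₀J))
        (htr'.le.trans Set.inter_subset_left) k hk) fun k hk => hbij J' hle htr' k (by push_cast; omega)
  refine ⟨fun i hi => ?_, ?_⟩
  · obtain ⟨fs, hfs⟩ := hfg J
    haveI := hasRgammaI J₀
    exact formalCohBijective_ml (M := ModuleCat.of A M) J hfs i
      (fun k hk => lifts_of_cond hω S J fs hfs subset_rfl Set.inter_subset_left k (by omega))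
      fun k hk => bijective_of_sub hω J J₀ hJ₀J htr hgood (fun l hl => hbij J₀ le_rfl htr l (by push_cast; omega)) k (by omega)
  · refine ⟨fun V hV x hx => ?_, fun y hy => ?_⟩
    · let Vs : Set (PrimeSpectrum A) := V.carrier
      let J' : Ideal A := J₀ ⊓ vanishingIdeal Vsᶜ
      have hcl : IsClosed Vsᶜ := V.2.isClosed_compl
      have hzV : zeroLocus (J' : Set A) = zeroLocus (J₀ : Set A) ∪ Vsᶜ := by
        rw [zeroLocus_inf, zeroLocus_vanishingIdeal_eq_closure, hcl.closure_eq]
      have htr' : zeroLocus (J' : Set A) ∩ zeroLocus (I : Set A) = zeroLocus (J : Set A) ∩ zeroLocus (I : Set A) := by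
        rw [hzV, Set.union_inter_distrib_right, htr]
        refine Set.union_eq_left.2 fun p ⟨hp, hpI⟩ => ⟨?_, hpI⟩
        by_contra hpJ
        exact hp (hV.2 p hpJ hpI)
      have hle : LocCoh.puncturedOpen A J' ≤ V := fun p hp => by
        by_contra hpV
        exact hp (hzV.ge (Or.inr hpV))
      refine ⟨LocCoh.puncturedOpen A J', ⟨⟨hle.trans hV.1, fun p hpU hpI hpJ => hpU (htr'.le ⟨hpJ, hpI⟩).1⟩, hle⟩,
        (hsmall J' inf_le_left htr').1 _ 0 fun n => ?_⟩
      rw [← res_map, hx n, map_zero, map_zero]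
    · have hle : LocCoh.puncturedOpen A J₀ ≤ LocCoh.puncturedOpen A J := fun p hp hpJ =>
        hp (zeroLocus_anti_mono_ideal hJ₀J hpJ)
      obtain ⟨x, hx⟩ := (hsmall J₀ le_rfl htr).2 (fun n => HVres A (quotPow A I M n) s hle (y n)) fun n => by
        rw [← res_map, hy n]
      exact ⟨LocCoh.puncturedOpen A J₀, ⟨hle, fun p hpU hpI hpJ => hpU (htr.le ⟨hpJ, hpI⟩).1⟩, x,
        fun n => (hx n).symm⟩

end GrothLib.BootGlob3
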