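import Groth.Agent.Lib.AlgzFormal3.Local

/-!
# Towers with the Mittag-Leffler property and the completed Čech complex
-/

set_option autoImplicit false
set_option linter.style.haveILetI false
set_option linter.unusedSectionVars false

universe u v

open CategoryTheory CategoryTheory.Limits HomologicalComplex GrothLib.RGamma GrothLib.ExtCech DerCA GrothLib.AlgzFormal3

attribute [local instance] HasDerivedCategory.standard

namespace GrothLib.BootGlob3

section Tower

variable {A : Type v} [CommRing A] {M : ℕ → Type u} [∀ n, AddCommGroup (M n)] [∀ n, Module A (M n)]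
  {t : ∀ n, M (n + 1) →ₗ[A] M n} {H : ∀ n, Submodule A (M n)}

/-- A tower of cosets of submodules whose iterated images stabilise contains a compatible family. -/
theorem exists_compatible_ml (htH : ∀ n, (H (n + 1)).map (t n) ≤ H n)
    (hstab : ∀ n, ∃ K, ∀ k, K ≤ k → subImg t H k n = subImg t H K n) (a : ∀ n, M n)
    (ha : ∀ n, t n (a (n + 1)) - a n ∈ H n) :
    ∃ b : ∀ n, M n, (∀ n, b n - a n ∈ H n) ∧ ∀ n, t n (b (n + 1)) = b n := by
  have hanti' : ∀ n, Antitone fun k => cosetImg t H a k n := fun n =>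
    antitone_nat_of_succ_le fun k => cosetImg_succ_subset htH ha k n
  have hstab' : ∀ n, ∃ K, ∀ k, K ≤ k → cosetImg t H a k n = cosetImg t H a K n := by
    intro n
    obtain ⟨K, hK⟩ := hstab n
    refine ⟨K, fun k hk => Set.Subset.antisymm (hanti' n hk) fun x hx => ?_⟩
    obtain ⟨c, hc⟩ := exists_cosetImg_eq (t := t) (H := H) a k n
    obtain ⟨c', hc'⟩ := exists_cosetImg_eq (t := t) (H := H) a K n
    have hcmem : c ∈ cosetImg t H a k n := by rw [hc]; simp
    have hc2 := hanti' n hk hcmem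
    rw [hc'] at hx
    simp only [hc', Set.mem_ofPred_eq] at hc2
    rw [hc]
    change x - c ∈ subImg t H k n
    rw [hK k hk, show x - c = (x - c') - (c - c') by abel]
    exact sub_mem hx hc2
  choose K hK using hstab'
  let S : ∀ n, Set (M n) := fun n => cosetImg t H a (K n) n
  have hS : ∀ n, S n = t n '' S (n + 1) := fun n => by
    change cosetImg t H a (K n) n = t n '' cosetImg t H a (K (n + 1)) (n + 1)
    rw [← hK n (max (K n) (K (n + 1)) + 1) (by omega), ← hK (n + 1) (max (K n) (K (n + 1))) (le_max_right _ _)]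
    rfl
  have hne : ∀ n, ∃ x, x ∈ S n := fun n => by
    obtain ⟨c, hc⟩ := exists_cosetImg_eq (t := t) (H := H) a (K n) n
    refine ⟨c, ?_⟩
    change c ∈ cosetImg t H a (K n) n
    rw [hc]
    simp
  have hstep : ∀ n, ∀ x : {x // x ∈ S n}, ∃ y : {y // y ∈ S (n + 1)}, t n y.1 = x.1 := fun n x => by
    obtain ⟨y, hy, hyx⟩ := (hS n).subset x.2
    exact ⟨⟨y, hy⟩, hyx⟩
  choose r hr using hstep
  let b : ∀ n, {x // x ∈ S n} := fun n => Nat.rec (motive := fun n => {x // x ∈ S n}) ⟨_, (hne 0).choose_spec⟩ r n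
  exact ⟨fun n => (b n).1, fun n => hanti' n (Nat.zero_le (K n)) (b n).2, fun n => hr n (b n)⟩

/-- Stabilisation from a compatible system of lower bounds. -/
theorem stab_of_bounds (htH : ∀ n, (H (n + 1)).map (t n) ≤ H n) (L : ∀ n, Submodule A (M n))
    (hL : ∀ n, L n ≤ H n) (hLt : ∀ n, L n ≤ (L (n + 1)).map (t n)) (hK : ∀ n, ∃ K, subImg t H K n ≤ L n) (n : ℕ) :
    ∃ K, ∀ k, K ≤ k → subImg t H k n = subImg t H K n := by
  have hlow : ∀ k n, L n ≤ subImg t H k n := by
    intro k
    induction k with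
    | zero => exact hL
    | succ k ih => exact fun n => (hLt n).trans (Submodule.map_mono (ih (n + 1)))
  obtain ⟨K, hK⟩ := hK n
  exact ⟨K, fun k hk => le_antisymm (antitone_nat_of_succ_le (f := fun k => subImg t H k n)
    (fun k => subImg_succ_le htH k n) hk) (hK.trans (hlow k n))⟩

end Tower

variable {A : Type u} [CommRing A] (I : Ideal A) (fs : List A) (M : ModuleCat.{u} A)

/-- The transition map of the quotients. -/
noncomputable def quotTr {n m : ℕ} (h : n ≤ m) : quotMod I M m ⟶ quotMod I M n :=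
  ModuleCat.ofHom (AdicCompletion.transitionMap I M h)

theorem quotTr_self (n : ℕ) : quotTr I M (le_refl n) = 𝟙 _ :=
  ModuleCat.hom_ext (Submodule.linearMap_qext _ (LinearMap.ext fun _ => rfl))

theorem quotTr_succ {n m : ℕ} (h : n + 1 ≤ m) :
    quotTr I M h ≫ quotT I M n = quotTr I M ((Nat.le_succ n).trans h) :=
  ModuleCat.hom_ext (Submodule.linearMap_qext _ (LinearMap.ext fun _ => rfl))

theorem quotHom_quotTr {n m : ℕ} (h : n ≤ m) : quotHom I M m ≫ quotTr I M h = quotHom I M n :=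
  ModuleCat.hom_ext (LinearMap.ext fun _ => rfl)

theorem quotHom_quotT (n : ℕ) : quotHom I M (n + 1) ≫ quotT I M n = quotHom I M n :=
  ModuleCat.hom_ext (LinearMap.ext fun _ => rfl)

theorem cxMap_id (X : ModuleCat.{u} A) : cxMap (𝟙 X) fs = 𝟙 _ := (SGA2Fin.cxF fs).map_id X

theorem cxMap_comp_apply {X Y Z : ModuleCat.{u} A} (f : X ⟶ Y) (g : Y ⟶ Z) (p : ℤ) (x : (extCech X fs).X p) :
    ((cxMap g fs).f p).hom (((cxMap f fs).f p).hom x) = ((cxMap (f ≫ g) fs).f p).hom x :=
  (ConcreteCategory.congr_hom (congrArg (fun φ => HomologicalComplex.Hom.f φ p)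
    ((SGA2Fin.cxF fs).map_comp f g)) x).symm

/-- Classes on deep quotients lift to classes of the module on a given one. -/
def Lifts (k : ℤ) : Prop :=
  ∀ n : ℕ, ∃ (m : ℕ) (h : n ≤ m), ∀ x : extCechH fs (quotMod I M m) k,
    ∃ z : extCechH fs M k, tMap fs (quotHom I M n) k z = tMap fs (quotTr I M h) k x

theorem lifts_of_neg (k : ℤ) (hk : k < 0) : Lifts I fs M k := fun n =>
  ⟨n, le_rfl, fun x => ⟨0, by
    haveI : Subsingleton (extCechH fs (quotMod I M n) k) := ModuleCat.subsingleton_of_isZero (GrothLib.DualCx22.isZero_homology_of_X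
      (ExtCech.isZero_X _ fs k (Or.inl hk)))
    exact Subsingleton.elim _ _⟩⟩

/-- A class vanishing at every level is zero when the previous cohomology lifts. -/
theorem eq_zero_of_forall_ml (p : ℤ) (hlift : Lifts I fs M (p - 1))
    (x : (hatCx I (extCech M fs)).homology p) (hx : ∀ n, (homologyMap (hatPr I fs M n) p).hom x = 0) : x = 0 := by
  obtain ⟨Z, hZ, rfl⟩ := cls_surjective (j := p) (k := p + 1) rfl x
  have hw : ∀ n, ∃ w, ((redCx I fs M n).d (p - 1) p).hom w = ((hatPr I fs M n).f p).hom Z := fun n =>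
    (cls_eq_zero_iff (i := p - 1) (by omega) rfl _ _).1 ((AlgzFormal3.cls_map (hatPr I fs M n) rfl Z hZ).symm.trans (hx n))
  choose w hw using hw
  let R := fun n => redCx I fs M n
  let B : ∀ n, Submodule A ((R n).X (p - 1)) := fun n => LinearMap.range ((R n).d (p - 1 - 1) (p - 1)).hom
  let t := fun n => cxMap (quotT I M n) fs
  have hB : ∀ n, B (n + 1) ≤ (B n).comap ((t n).f (p - 1)).hom := fun n => by
    rintro _ ⟨v, rfl⟩
    exact ⟨_, d_map (t n) _ _ v⟩
  let T : ∀ n, ((R (n + 1)).X (p - 1) ⧸ B (n + 1)) →ₗ[A] ((R n).X (p - 1) ⧸ B n) := fun n =>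
    Submodule.mapQ _ _ ((t n).f (p - 1)).hom (hB n)
  let Zc : ∀ n, Submodule A ((R n).X (p - 1)) := fun n => LinearMap.ker ((R n).d (p - 1) (p - 1 + 1)).hom
  let H : ∀ n, Submodule A ((R n).X (p - 1) ⧸ B n) := fun n => (Zc n).map (B n).mkQ
  have hp : p - 1 + 1 = p := by omega
  have htH : ∀ n, (H (n + 1)).map (T n) ≤ H n := fun n => by
    rintro _ ⟨_, ⟨v, hv, rfl⟩, rfl⟩
    exact ⟨_, LinearMap.mem_ker.2 ((d_map (t n) _ _ v).trans (by rw [LinearMap.mem_ker.1 hv, map_zero])), rfl⟩
  let C : Submodule A ((extCech M fs).X (p - 1)) := LinearMap.ker ((extCech M fs).d (p - 1) (p - 1 + 1)).hom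
  let L : ∀ n, Submodule A ((R n).X (p - 1) ⧸ B n) := fun n =>
    (C.map ((cxMap (quotHom I M n) fs).f (p - 1)).hom).map (B n).mkQ
  have himg : ∀ K n N (h : n ≤ N), N = n + K → ∀ y ∈ subImg T H K n,
      ∃ c ∈ Zc N, Submodule.Quotient.mk (((cxMap (quotTr I M h) fs).f (p - 1)).hom c) = y := by
    intro K
    induction K with
    | zero =>
      rintro n N h hN y ⟨c, hc, rfl⟩
      obtain rfl : N = n := by omega
      refine ⟨c, hc, ?_⟩
      rw [show quotTr I M h = 𝟙 _ from quotTr_self I M _, cxMap_id]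
      rfl
    | succ K ih =>
      rintro n N h hN _ ⟨y', hy', rfl⟩
      obtain ⟨c, hc, rfl⟩ := ih (n + 1) N (by omega) (by omega) y' hy'
      refine ⟨c, hc, ?_⟩
      change _ = Submodule.Quotient.mk (((t n).f (p - 1)).hom _)
      rw [cxMap_comp_apply, quotTr_succ]
  have hstab := stab_of_bounds (t := T) (H := H) htH L
    (fun n => Submodule.map_mono (by
      rintro _ ⟨c, hc, rfl⟩
      exact LinearMap.mem_ker.2 ((d_map _ _ _ c).trans (by rw [LinearMap.mem_ker.1 hc, map_zero]))))
    (fun n => by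
      rintro _ ⟨_, ⟨c, hc, rfl⟩, rfl⟩
      refine ⟨_, ⟨_, ⟨c, hc, rfl⟩, rfl⟩, ?_⟩
      change Submodule.Quotient.mk (((t n).f (p - 1)).hom _) = Submodule.Quotient.mk _
      rw [cxMap_comp_apply, quotHom_quotT])
    (fun n => by
      obtain ⟨m, hm, hl⟩ := hlift n
      refine ⟨m - n, fun y hy => ?_⟩
      obtain ⟨c, hc, rfl⟩ := himg (m - n) n m hm (by omega) y hy
      obtain ⟨z, hz⟩ := hl (cls (k := p - 1 + 1) rfl c hc)
      obtain ⟨z₀, hz₀, rfl⟩ := cls_surjective (K := extCech M fs) (j := p - 1) (k := p - 1 + 1) rfl z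
      rw [tMap, tMap, AlgzFormal3.cls_map, AlgzFormal3.cls_map, ← sub_eq_zero, ← cls_sub] at hz
      rotate_left
      · rw [map_sub, d_map, d_map, hz₀, LinearMap.mem_ker.1 hc, map_zero, map_zero, sub_zero]
      obtain ⟨e, he⟩ := (cls_eq_zero_iff (i := p - 1 - 1) (by omega) rfl _ _).1 hz
      refine ⟨_, ⟨z₀, LinearMap.mem_ker.2 hz₀, rfl⟩, ?_⟩
      exact (Submodule.Quotient.eq (B n)).2 ⟨e, he⟩)
  obtain ⟨b, hb, hbt⟩ := exists_compatible_ml (t := T) (H := H) htH hstab
    (fun n => Submodule.Quotient.mk (w n)) fun n => by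
      refine ⟨((t n).f (p - 1)).hom (w (n + 1)) - w n, ?_, rfl⟩
      change ((R n).d (p - 1) (p - 1 + 1)).hom _ = 0
      rw [hp, map_sub, hw, d_map, hw]
      exact sub_eq_zero.2 (hatPr_compat_apply I fs M p n Z)
  have step : ∀ n, ∀ v : {v : (R n).X (p - 1) // Submodule.Quotient.mk v = b n},
      ∃ v' : {v' : (R (n + 1)).X (p - 1) // Submodule.Quotient.mk v' = b (n + 1)},
        ((t n).f (p - 1)).hom v'.1 = v.1 := fun n ⟨v, hv⟩ => by
    obtain ⟨v', hv'⟩ := Submodule.Quotient.mk_surjective _ (b (n + 1))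
    have h0 : ((t n).f (p - 1)).hom v' - v ∈ B n := by
      rw [← Submodule.Quotient.eq, hv, ← hbt n, ← hv']
      rfl
    obtain ⟨e, he⟩ := h0
    obtain ⟨e', rfl⟩ := quotT_surjective I fs M (p - 1 - 1) n e
    refine ⟨⟨v' - ((R (n + 1)).d (p - 1 - 1) (p - 1)).hom e', ?_⟩, ?_⟩
    · rw [Submodule.Quotient.mk_sub, hv', (Submodule.Quotient.mk_eq_zero (B (n + 1))).2 ⟨e', rfl⟩, sub_zero]
    · change ((t n).f (p - 1)).hom (_ - _) = v
      rw [map_sub, ← d_map, he, sub_sub_cancel]
  choose r hr using step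
  let v : ∀ n, {v : (R n).X (p - 1) // Submodule.Quotient.mk v = b n} :=
    fun n => Nat.rec (motive := fun n => {v : (R n).X (p - 1) // Submodule.Quotient.mk v = b n})
      ⟨_, (Submodule.Quotient.mk_surjective _ (b 0)).choose_spec⟩ r n
  obtain ⟨V, hV⟩ := hat_glue I fs M (p - 1) (fun n => (v n).1) fun n => hr n (v n)
  refine (cls_eq_zero_iff (i := p - 1) (by omega) rfl Z hZ).2 ⟨V, hat_ext I fs M p fun n => ?_⟩
  rw [← d_map, hV, ← hw n, ← sub_eq_zero, ← map_sub]
  have h := hb n
  rw [← (v n).2, ← Submodule.Quotient.mk_sub] at h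
  obtain ⟨c, hc, hcv⟩ := h
  obtain ⟨e, he⟩ := (Submodule.Quotient.eq _).1 hcv.symm
  rw [← sub_add_cancel ((v n).1 - w n) c, map_add, ← he, d_d, zero_add]
  have hc' : ((R n).d (p - 1) (p - 1 + 1)).hom c = 0 := hc
  rw [hp] at hc'
  exact hc'

variable {I fs M} [IsNoetherianRing A] [Module.Finite A M]

/-- The tower of Čech local cohomology computes that of the module. -/
theorem bij_extCechH_ml [DRing.HasDerivedCompletion I] (J : Ideal A) [DRing.HasRgammaI J]
    (hfs : Ideal.span {x | x ∈ fs} = J) (k : ℤ) (hlift : Lifts I fs M (k - 1))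
    (hbij : Function.Bijective ((DerivedCategory.homologyFunctor (ModuleCat.{u} A) k).map
      (DRing.toDerivedCompletion I ((DRing.RgammaI J).obj (Dual.inD A M)))).hom) :
    (∀ x : extCechH fs M k, (∀ n, tMap fs (quotHom I M (n + 1)) k x = 0) → x = 0) ∧
      ∀ y : ∀ n, extCechH fs (quotMod I M (n + 1)) k, (∀ n, tMap fs (quotT I M (n + 1)) k (y (n + 1)) = y n) →
        ∃ x : extCechH fs M k, ∀ n, tMap fs (quotHom I M (n + 1)) k x = y n := by
  obtain ⟨e, i, -, hei⟩ := exists_iso_completion_cech I J fs hfs M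
  let F := DerivedCategory.homologyFunctor (ModuleCat.{u} A) k
  let Φ := (DerivedCategory.homologyFunctorFactors (ModuleCat.{u} A) k).hom
  have hb : Function.Bijective (HomologicalComplex.homologyMap (toHat I (extCech M fs)) k).hom := by
    haveI := (ConcreteCategory.isIso_iff_bijective (F.map (DRing.toDerivedCompletion I _))).2 hbij
    haveI : IsIso (F.map (DerivedCategory.Q.map (toHat I (extCech M fs)))) := by
      have h : DerivedCategory.Q.map (toHat I (extCech M fs)) =
          e.inv ≫ DRing.toDerivedCompletion I _ ≫ i.hom := (Iso.eq_inv_comp e).2 hei.symm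
      rw [h, F.map_comp, F.map_comp]
      infer_instance
    haveI hΦ : ∀ X : DRing.Cx A, IsIso (Φ.app X) := fun X =>
      inferInstanceAs (IsIso ((DerivedCategory.homologyFunctorFactors (ModuleCat.{u} A) k).hom.app X))
    have hn := Φ.naturality (toHat I (extCech M fs))
    haveI : IsIso (HomologicalComplex.homologyMap (toHat I (extCech M fs)) k) := by
      have h : HomologicalComplex.homologyMap (toHat I (extCech M fs)) k =
          inv (Φ.app _) ≫ F.map (DerivedCategory.Q.map (toHat I (extCech M fs))) ≫ Φ.app _ :=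
        (IsIso.eq_inv_comp (Φ.app _)).2 hn.symm
      rw [h]
      exact @IsIso.comp_isIso _ _ _ _ _ _ _ (@IsIso.inv_isIso _ _ _ _ _ (hΦ _)) (@IsIso.comp_isIso _ _ _ _ _ _ _ inferInstance (hΦ _))
    exact ConcreteCategory.bijective_of_isIso (HomologicalComplex.homologyMap (toHat I (extCech M fs)) k)
  haveI h0 : Subsingleton (extCechH fs (quotMod I M 0) k) :=
    haveI := subsingleton_quotMod_zero I M
    subsingleton_extCechH_of_subsingleton fs _ k
  refine ⟨fun x hx => hb.1 ?_, fun y hy => ?_⟩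
  · rw [map_zero]
    refine eq_zero_of_forall_ml I fs M k hlift _ fun n => ?_
    rw [toHat_hatPr_apply]
    cases n with
    | zero => exact h0.elim _ _
    | succ n => exact hx n
  · let y' : ∀ n, extCechH fs (quotMod I M n) k := fun n => Nat.casesOn (motive := fun n => extCechH fs (quotMod I M n) k) n 0 y
    obtain ⟨z, hz⟩ := AlgzFormal3.exists_of_compatible I fs M k y' fun n => by
      cases n with
      | zero => exact h0.elim _ _
      | succ n => exact hy n
    obtain ⟨x, rfl⟩ := hb.2 z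
    exact ⟨x, fun n => (toHat_hatPr_apply I fs M k (n + 1) x).symm.trans (hz (n + 1))⟩

end GrothLib.BootGlob3
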